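import Mathlib
import Cfsg.Agent.BpExc.TorRgd

/-!
# Large centralisers of involutions in groups with a root group datum

* `card_sq_le` : in a finite group, the number of the solutions of `x * x = 1` is at most `|B|` times the number of the
  orbits of the subgroup `B` on the cosets of `B`;
* `card_W_le` : `|W| ≤ 2 ^ |Pos|`;
* `card_cent` : `|U| ≤ |W| |C(t)|` for an element `t` with `t * t = 1`;
* `pow_six_le` : if all the root groups have order at least `128`, then `|P| ^ 6 ≤ |C(t)| ^ 7`, `P` a Sylow `p`-subgroup.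
-/

set_option autoImplicit false
set_option linter.unusedSectionVars false

namespace Cfsg.Agent.H277.Inv

open CoxeterSystem Cfsg.Agent.ChevalleyStructure.CoxeterGeom Cfsg.Agent.Tits.Roots Cfsg.Agent.Tits.Core
  Cfsg.Agent.Tits.RootComb Cfsg.Agent.Tits.Exchange Cfsg.Agent.Nodes.Reps Cfsg.Agent.Nodes.BNOf
  Cfsg.Agent.Nodes.Comb Cfsg.Agent.Nodes.BNOf.RGD Cfsg.Agent.Nodes.Unique Cfsg.Agent.Nodes.CardSup
  Cfsg.Agent.Nodes.StabComb Cfsg.Agent.Nodes.Bruhat Cfsg.Agent.Nodes.OppDec Cfsg.Agent.Nodes.LeviDec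
  Cfsg.Agent.Nodes.NormalForm Cfsg.Agent.KFacts.RgdOpp Cfsg.Agent.KFacts.RgdAut Cfsg.Agent.KFacts.RgdDiag
  Cfsg.Agent.KFacts.RgdRigid Cfsg.Agent.CpAut.RgdFix Cfsg.Agent.CpAut.RgdCoh Cfsg.Agent.CpAut.RgdConj
  Cfsg.Agent.BpExc.TorRgd
open scoped commutatorElement Pointwise

/-- The solutions of `x * x = 1`. -/
theorem card_sq_le {G : Type*} [Group G] [Finite G] (B : Subgroup G) :
    Nat.card {x : G // x * x = 1} ≤ Nat.card (Quotient (MulAction.orbitRel B (G ⧸ B))) * Nat.card B := by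
  classical
  have key : ∀ x y : {x : G // x * x = 1}, (x : G ⧸ B) = (y : G ⧸ B) →
      ((x : G)⁻¹ * y ∈ B) ∧ ((x : G)⁻¹ * y) • (x : G ⧸ B) = (x : G ⧸ B) := by
    intro x y e
    have h1 : (x : G)⁻¹ * y ∈ B := QuotientGroup.eq.1 e
    refine ⟨h1, ?_⟩
    rw [show (((x : G)⁻¹ * y) • (x : G ⧸ B)) = (((x : G)⁻¹ * y * x : G) : G ⧸ B) from rfl, eq_comm,
      QuotientGroup.eq]
    have hx := x.2
    have hy := y.2
    have hx' : (x : G)⁻¹ = x := inv_eq_of_mul_eq_one_left hx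
    have hy' : (y : G)⁻¹ = y := inv_eq_of_mul_eq_one_left hy
    have e2 : (x : G)⁻¹ * ((x : G)⁻¹ * y * x) = ((x : G)⁻¹ * y)⁻¹ := by
      rw [mul_inv_rev, inv_inv, hy', hx']
      rw [← mul_assoc, ← mul_assoc, hx, one_mul]
    rw [e2]
    exact inv_mem h1
  let r : G ⧸ B → {x : G // x * x = 1} → G := fun c x =>
    if h : ∃ z : {x : G // x * x = 1}, (z : G ⧸ B) = c then (h.choose : G) else 1
  have hr : ∀ x : {x : G // x * x = 1}, ∃ z : {x : G // x * x = 1}, (z : G ⧸ B) = (x : G ⧸ B) ∧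
      r (x : G ⧸ B) x = z := by
    intro x
    have h : ∃ z : {x : G // x * x = 1}, (z : G ⧸ B) = (x : G ⧸ B) := ⟨x, rfl⟩
    refine ⟨h.choose, h.choose_spec, ?_⟩
    show (if h : ∃ z : {x : G // x * x = 1}, (z : G ⧸ B) = (x : G ⧸ B) then (h.choose : G) else 1) = _
    rw [dif_pos h]
  have hrc : ∀ x y : {x : G // x * x = 1}, (x : G ⧸ B) = (y : G ⧸ B) → r (x : G ⧸ B) x = r (y : G ⧸ B) y := by
    intro x y e
    show (if h : ∃ z : {x : G // x * x = 1}, (z : G ⧸ B) = (x : G ⧸ B) then (h.choose : G) else 1) =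
      (if h : ∃ z : {x : G // x * x = 1}, (z : G ⧸ B) = (y : G ⧸ B) then (h.choose : G) else 1)
    rw [e]
  have hmem : ∀ x : {x : G // x * x = 1}, ((r (x : G ⧸ B) x)⁻¹ * x ∈ B) ∧
      ((r (x : G ⧸ B) x)⁻¹ * x) • (x : G ⧸ B) = (x : G ⧸ B) := by
    intro x
    obtain ⟨z, hz, e⟩ := hr x
    rw [e]
    have := key z x hz
    rwa [hz] at this
  let f : {x : G // x * x = 1} → (Σ b : B, MulAction.fixedBy (G ⧸ B) b) := fun x =>
    ⟨⟨(r (x : G ⧸ B) x)⁻¹ * x, (hmem x).1⟩, ⟨(x : G ⧸ B), (hmem x).2⟩⟩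
  have hf : Function.Injective f := by
    intro x y e
    have e1 : (r (x : G ⧸ B) x)⁻¹ * x = (r (y : G ⧸ B) y)⁻¹ * (y : G) :=
      congrArg (fun s : (Σ b : B, MulAction.fixedBy (G ⧸ B) b) => (s.1 : G)) e
    have e2 : (x : G ⧸ B) = (y : G ⧸ B) :=
      congrArg (fun s : (Σ b : B, MulAction.fixedBy (G ⧸ B) b) => (s.2 : G ⧸ B)) e
    rw [hrc x y e2] at e1
    exact Subtype.ext (mul_left_cancel e1)
  have h1 := Nat.card_le_card_of_injective f hf
  rw [Nat.card_congr (MulAction.sigmaFixedByEquivOrbitsProdGroup B (G ⧸ B)), Nat.card_prod] at h1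
  exact h1

variable {I W Y : Type*} [Fintype I] [DecidableEq I] [Group W] [Group Y] {M : CoxeterMatrix I}
  {cs : CoxeterSystem M W} {A : I → I → ℤ} {h : IsCartan M A} {p : ℕ} {T : Subgroup Y} {n : I → Y}
  {X : (I → ℤ) → Subgroup Y}

section Weyl

omit [Group Y] in
theorem rep_one_apply (x : I → ℤ) : rep cs h (1 : W) x = x := by
  rw [map_one]; rfl

omit [Group Y] in
theorem sr_ne_zero' (i : I) : (sr i : I → ℤ) ≠ 0 := by
  intro h0
  have := congrFun h0 i
  simp [sr] at this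

omit [Group Y] in
/-- `w` is determined by the set of the positive roots made negative by `w`. -/
theorem NW_injective : Function.Injective (fun w : W => NW cs h w) := by
  intro w w' e
  have e' : NW cs h w = NW cs h w' := e
  have key : w * w'⁻¹ = 1 := by
    apply eq_one_of_nonneg cs h
    intro i
    by_contra hneg
    have hr : IsRoot cs h (rep cs h w'⁻¹ (sr i)) := (isRoot_sr cs h i).act w'⁻¹
    rcases hr.pos_or_neg with h0 | h0
    · -- then `w'` makes it positive, so does `w`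
      have h1 : rep cs h w'⁻¹ (sr i) ∉ NW cs h w' := by
        rintro ⟨-, -, h2⟩
        rw [← rep_mul_apply, mul_inv_cancel, rep_one_apply] at h2
        exact absurd (le_antisymm h2 (sr_nonneg i)) (sr_ne_zero' i)
      rw [← e'] at h1
      apply hneg
      rcases ((hr.act w).pos_or_neg) with h3 | h3
      · rw [← rep_mul_apply] at h3
        exact h3
      · exact absurd ⟨hr, h0, h3⟩ h1
    · have hn : IsRoot cs h (-rep cs h w'⁻¹ (sr i)) := hr.neg
      have h1 : -rep cs h w'⁻¹ (sr i) ∈ NW cs h w' := by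
        refine ⟨hn, neg_nonneg.2 h0, ?_⟩
        rw [map_neg, ← rep_mul_apply, mul_inv_cancel, rep_one_apply]
        exact neg_nonpos.2 (sr_nonneg i)
      rw [← e'] at h1
      apply hneg
      have h2 := h1.2.2
      rw [map_neg, ← rep_mul_apply] at h2
      exact neg_nonpos.1 h2
  exact mul_inv_eq_one.1 key

omit [Group Y] in
/-- `|W| ≤ 2 ^ |Pos|` -/
theorem card_W_le [Finite W] : Nat.card W ≤ 2 ^ (Pos cs h).ncard := by
  have hfin := finite_pos (cs := cs) (h := h)
  have h1 : Nat.card W ≤ Nat.card ↥(𝒫 (Pos cs h)) := by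
    have : Finite ↥(𝒫 (Pos cs h)) := hfin.finite_subsets
    refine Nat.card_le_card_of_injective (fun w => ⟨NW cs h w, fun x hx => ⟨hx.1, hx.2.1⟩⟩) ?_
    intro w w' e
    exact NW_injective (congrArg Subtype.val e)
  rwa [Nat.card_coe_set_eq, Set.ncard_powerset _ hfin] at h1

omit [Group Y] in
/-- the longest element -/
theorem exists_longest [Finite W] : ∃ w : W, NW cs h w = Pos cs h := by
  have key : ∀ (k : ℕ) (w : W), (Fut cs h w).ncard = k → ∃ v : W, Fut cs h v = ∅ := by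
    intro k
    induction k with
    | zero => intro w hw; exact ⟨w, (Set.ncard_eq_zero (finite_fut w)).1 hw⟩
    | succ k ih =>
      intro w hw
      have hne : (Fut cs h w).Nonempty := by
        rw [Set.nonempty_iff_ne_empty]
        intro h1
        rw [h1, Set.ncard_empty] at hw
        omega
      obtain ⟨y, hy⟩ := hne
      obtain ⟨i, hi⟩ := exists_simple hy
      apply ih (w * cs.simple i)
      rw [fut_mul hi, Set.ncard_sdiff_singleton_of_mem (mem_fut hi), hw]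
      rfl
  obtain ⟨v, hv⟩ := key _ 1 rfl
  refine ⟨v⁻¹, ?_⟩
  ext x
  constructor
  · rintro ⟨h1, h2, -⟩
    exact ⟨h1, h2⟩
  · rintro ⟨h1, h2⟩
    refine ⟨h1, h2, ?_⟩
    rcases (h1.act v⁻¹).pos_or_neg with h3 | h3
    · have : x ∈ Fut cs h v := ⟨h1, h2, h3⟩
      rw [hv] at this
      exact absurd this (Set.notMem_empty x)
    · exact h3

end Weyl

variable (R : RGD cs h p T n X)

include R

/-- The number of the double cosets. -/
theorem card_orbits_le [Finite W] (hG : GG cs h T X = ⊤) :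
    Nat.card (Quotient (MulAction.orbitRel (RGD.B cs h T X) (Y ⧸ RGD.B cs h T X))) ≤ Nat.card W := by
  classical
  have hex : ∀ w : W, ∃ k, Rp cs R.nsys w k := fun w => exists_rp cs R.nsys w
  choose k hk using hex
  refine Nat.card_le_card_of_surjective
    (fun w => (Quotient.mk (MulAction.orbitRel (RGD.B cs h T X) (Y ⧸ RGD.B cs h T X)) ((k w : Y) : Y ⧸ RGD.B cs h T X))) ?_
  intro c
  induction c using Quotient.inductionOn with
  | h c =>
  obtain ⟨g, rfl⟩ := QuotientGroup.mk_surjective c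
  have hgG : g ∈ GG cs h T X := by rw [hG]; exact Subgroup.mem_top g
  obtain ⟨w, b₁, hb₁, k', hk', b₂, hb₂, rfl⟩ := (mem_GG R).1 hgG
  refine ⟨w, ?_⟩
  apply Quotient.sound
  show (MulAction.orbitRel (RGD.B cs h T X) (Y ⧸ RGD.B cs h T X)) _ _
  rw [MulAction.orbitRel_apply]
  have h1 : k w * k'⁻¹ ∈ T := by
    have := (hk w).mul hk'.inv
    rw [mul_inv_cancel] at this
    exact this.mem_of_one
  have h2 : k w * k'⁻¹ * b₁⁻¹ ∈ RGD.B cs h T X := mul_mem (T_le_B h1) (inv_mem hb₁)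
  refine ⟨⟨_, h2⟩, ?_⟩
  show ((k w * k'⁻¹ * b₁⁻¹ * (b₁ * k' * b₂) : Y) : Y ⧸ RGD.B cs h T X) = _
  rw [QuotientGroup.eq]
  have e : (k w * k'⁻¹ * b₁⁻¹ * (b₁ * k' * b₂))⁻¹ * k w = b₂⁻¹ := by group
  rw [e]
  exact inv_mem hb₂

/-- The number of the Sylow `p`-subgroups is at least `|U|`. -/
theorem card_U_le [Finite W] [Finite Y] [Fact p.Prime] (hG : GG cs h T X = ⊤) :
    Nat.card ↥(Sup X (Pos cs h)) ≤ (RGD.B cs h T X).index := by
  classical
  have := Fintype.ofFinite W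
  have D : Diag T X (1 : MulAut Y) 1 := ⟨fun x => Iff.rfl, fun _ _ => Iff.rfl, fun _ _ => Iff.rfl⟩
  have h1 := card_fix_sylow R hG D
  obtain ⟨w, hw⟩ := exists_longest (cs := cs) (h := h)
  have hfix : fixedSubgroup (1 : MulAut Y) = ⊤ := by
    rw [eq_top_iff]; intro x _; rfl
  have h2 : Nat.card {S : Sylow p Y // (1 : MulAut Y) • S = S} = Nat.card (Sylow p Y) :=
    Nat.card_congr ((Equiv.subtypeUnivEquiv fun S => one_smul _ S))
  obtain ⟨P, hP⟩ := exists_sylow_eq R hG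
  have h3 : Nat.card (Sylow p Y) = (RGD.B cs h T X).index := by
    rw [Sylow.card_eq_index_normalizer P, ← normalizer_U' R hG, ← hP]
    rfl
  rw [← h3, ← h2, h1]
  have h4 : Nat.card ↥(Sup X (Pos cs h)) = Nat.card ↥(Sup X (NW cs h w) ⊓ fixedSubgroup (1 : MulAut Y)) := by
    rw [hfix, inf_top_eq, hw]
  rw [h4]
  exact Finset.single_le_sum (f := fun w : W => Nat.card ↥(Sup X (NW cs h w) ⊓ fixedSubgroup (1 : MulAut Y)))
    (fun _ _ => Nat.zero_le _) (Finset.mem_univ w)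

/-- **Centralisers of involutions are large.** -/
theorem card_cent [Finite W] [Finite Y] [Fact p.Prime] (hG : GG cs h T X = ⊤) {t : Y} (ht : t * t = 1) :
    Nat.card ↥(Sup X (Pos cs h)) ≤ Nat.card W * Nat.card ↥(Subgroup.centralizer ({t} : Set Y)) := by
  have h1 := card_sq_le (RGD.B cs h T X)
  have h2 := card_orbits_le R hG
  have h3 := card_U_le R hG
  have h4 := (RGD.B cs h T X).index_mul_card
  -- the class of `t`
  have h5 : (Subgroup.centralizer ({t} : Set Y)).index ≤ Nat.card {x : Y // x * x = 1} := by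
    refine Nat.card_le_card_of_injective (fun c : Y ⧸ Subgroup.centralizer ({t} : Set Y) =>
      (⟨c.out * t * c.out⁻¹, by
        have e : c.out * t * c.out⁻¹ * (c.out * t * c.out⁻¹) = c.out * (t * t) * c.out⁻¹ := by group
        rw [e, ht, mul_one, mul_inv_cancel]⟩ : {x : Y // x * x = 1})) ?_
    intro c d e
    have e1 : c.out * t * c.out⁻¹ = d.out * t * d.out⁻¹ := congrArg Subtype.val e
    rw [← c.out_eq, ← d.out_eq]
    apply QuotientGroup.eq.2
    rw [Subgroup.mem_centralizer_singleton_iff]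
    calc (c.out)⁻¹ * d.out * t = (c.out)⁻¹ * (d.out * t * (d.out)⁻¹) * d.out := by group
      _ = (c.out)⁻¹ * (c.out * t * (c.out)⁻¹) * d.out := by rw [e1]
      _ = t * ((c.out)⁻¹ * d.out) := by group
  have h6 := (Subgroup.centralizer ({t} : Set Y)).index_mul_card
  have hB : 0 < Nat.card ↥(RGD.B cs h T X) := Nat.card_pos
  have hc : 0 < Nat.card ↥(Subgroup.centralizer ({t} : Set Y)) := Nat.card_pos
  have h7 : Nat.card ↥(RGD.B cs h T X) * Nat.card ↥(Sup X (Pos cs h)) ≤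
      Nat.card ↥(RGD.B cs h T X) * (Nat.card W * Nat.card ↥(Subgroup.centralizer ({t} : Set Y))) := by
    calc Nat.card ↥(RGD.B cs h T X) * Nat.card ↥(Sup X (Pos cs h)) ≤
        Nat.card ↥(RGD.B cs h T X) * (RGD.B cs h T X).index := Nat.mul_le_mul_left _ h3
      _ = Nat.card Y := by rw [mul_comm, h4]
      _ = (Subgroup.centralizer ({t} : Set Y)).index * Nat.card ↥(Subgroup.centralizer ({t} : Set Y)) := h6.symm
      _ ≤ (Nat.card W * Nat.card ↥(RGD.B cs h T X)) * Nat.card ↥(Subgroup.centralizer ({t} : Set Y)) :=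
        Nat.mul_le_mul_right _ (h5.trans (h1.trans (Nat.mul_le_mul_right _ h2)))
      _ = _ := by ring
  exact Nat.le_of_mul_le_mul_left h7 hB

/-- `|W| ^ 7 ≤ |U|` -/
theorem pow_seven_le [Finite W] [Finite Y] (hX : ∀ i, 128 ≤ Nat.card ↥(X (sr i))) :
    Nat.card W ^ 7 ≤ Nat.card ↥(Sup X (Pos cs h)) := by
  classical
  have hfin := finite_pos (cs := cs) (h := h)
  have h1 := card_sup R (s := hfin.toFinset) (by rw [Set.Finite.coe_toFinset]) (by
    rw [Set.Finite.coe_toFinset]; exact closed_pos)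
  rw [Set.Finite.coe_toFinset] at h1
  rw [h1]
  have h2 : 128 ^ (Pos cs h).ncard ≤ ∏ x ∈ hfin.toFinset, Nat.card ↥(X x) := by
    rw [Set.ncard_eq_toFinset_card _ hfin]
    apply Finset.pow_card_le_prod
    intro x hx
    have hx1 : IsRoot cs h x := ((Set.Finite.mem_toFinset _).1 hx).1
    obtain ⟨w, i, rfl⟩ := hx1
    rw [card_X_rep R w (isRoot_sr cs h i)]
    exact hX i
  calc Nat.card W ^ 7 ≤ (2 ^ (Pos cs h).ncard) ^ 7 := Nat.pow_le_pow_left card_W_le 7
    _ = 128 ^ (Pos cs h).ncard := by rw [← pow_mul, mul_comm, pow_mul]; norm_num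
    _ ≤ _ := h2

/-- **Centralisers of involutions are large**, the form used below. -/
theorem pow_six_le [Finite W] [Finite Y] [Fact p.Prime] (hG : GG cs h T X = ⊤)
    (hX : ∀ i, 128 ≤ Nat.card ↥(X (sr i))) {t : Y} (ht : t * t = 1) (P : Sylow p Y) :
    Nat.card ↥(P : Subgroup Y) ^ 6 ≤ Nat.card ↥(Subgroup.centralizer ({t} : Set Y)) ^ 7 := by
  obtain ⟨Q, hQ⟩ := exists_sylow_eq R hG
  have h0 : Nat.card ↥(P : Subgroup Y) = Nat.card ↥(Sup X (Pos cs h)) := by
    rw [← hQ, Sylow.card_eq_multiplicity, Sylow.card_eq_multiplicity]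
  rw [h0]
  have h1 := card_cent R hG ht
  have h2 := pow_seven_le R hX
  set u := Nat.card ↥(Sup X (Pos cs h))
  set w := Nat.card W
  set c := Nat.card ↥(Subgroup.centralizer ({t} : Set Y))
  have hu : 0 < u := Nat.card_pos
  have h3 : u * u ^ 6 ≤ u * c ^ 7 := by
    calc u * u ^ 6 = u ^ 7 := by ring
      _ ≤ (w * c) ^ 7 := Nat.pow_le_pow_left h1 7
      _ = w ^ 7 * c ^ 7 := by ring
      _ ≤ u * c ^ 7 := Nat.mul_le_mul_right _ h2
  exact Nat.le_of_mul_le_mul_left h3 hu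

end Cfsg.Agent.H277.Inv
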