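import Mathlib
import Cfsg.Agent.H277.Inv
import Cfsg.Agent.FixBN.PslGood
import Cfsg.Agent.FixBN.WittNodeD

/-!
# Large centralisers of involutions: the classical groups

`Big p G` : `|P| ^ 6 ≤ |C(t)| ^ 7` for `t * t = 1` and a Sylow `p`-subgroup `P`.
-/

set_option autoImplicit false
set_option linter.unusedSectionVars false

namespace Cfsg.Agent.H277.Big

open Cfsg CoxeterSystem Cfsg.Agent.ChevalleyStructure.CoxeterGeom Cfsg.Agent.Tits.Roots Cfsg.Agent.Tits.Core
  Cfsg.Agent.Tits.RootComb Cfsg.Agent.Nodes.Comb Cfsg.Agent.Nodes.Reps Cfsg.Agent.Nodes.BNOf Cfsg.Agent.Nodes.OppDec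
open Cfsg.Agent.Nodes.RGDLib (G1 X_le_G1 rgd_restrict rgd_map_of_ker_le_center)

/-- Centralisers of involutions are large. -/
def Big (p : ℕ) (G : Type*) [Group G] : Prop :=
  ∀ t : G, t * t = 1 → ∀ P : Sylow p G,
    Nat.card ↥(P : Subgroup G) ^ 6 ≤ Nat.card ↥(Subgroup.centralizer ({t} : Set G)) ^ 7

section Gen

variable {I W Y : Type*} [Fintype I] [DecidableEq I] [Group W] [Group Y] {M : CoxeterMatrix I}
  {cs : CoxeterSystem M W} {A : I → I → ℤ} {h : IsCartan M A} {p : ℕ} {T : Subgroup Y} {n : I → Y}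
  {X : (I → ℤ) → Subgroup Y}

theorem big_of_rgd [Finite W] [Finite Y] [Fact p.Prime] (R : RGD cs h p T n X) (hG : G1 cs h X = ⊤)
    (hX : ∀ i, ∃ (E : Type) (_ : Finite E) (f : E → Y), 128 ≤ Nat.card E ∧ Function.Injective f ∧
      ∀ a, f a ∈ X (sr i)) : Big p Y := by
  intro t ht P
  refine Inv.pow_six_le R (KFacts.RgdRigid.GG_eq_top (T := T) hG) (fun i => ?_) ht P
  obtain ⟨E, _, f, h1, h2, h3⟩ := hX i
  have h4 : Function.Injective (fun a => (⟨f a, h3 a⟩ : ↥(X (sr i)))) := fun a b hab =>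
    h2 (congrArg Subtype.val hab)
  exact h1.trans (Nat.card_le_card_of_injective _ h4)

end Gen

/-! ### Linear groups -/

section PSL

open Matrix
open Cfsg.Agent.Nodes.RGDLib Cfsg.Agent.Nodes.RootsA Cfsg.Agent.Nodes.RGDTypeA
open Cfsg.Agent.LieRecognition.BNCox (cA)
open Cfsg.Agent.LieClassical.SLGen
open Cfsg.Agent.TitsThree.KSideA (tv tv_of_ne tv_add tv_zero tv_neg)

theorem big_psl_succ {F : Type} [Field F] [Finite F] {p : ℕ} [CharP F p] {n : ℕ}
    (hF : 128 ≤ Nat.card F) : Big p (ProjectiveSpecialLinearGroup (Fin (n + 1)) F) := by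
  have hpp : p.Prime := CharP.char_is_prime F p
  have : Fact p.Prime := ⟨hpp⟩
  have : Finite (cA n).Group := finite_W (cA n).toCoxeterSystem (isCartan n)
  have : Finite (ProjectiveSpecialLinearGroup (Fin (n + 1)) F) := Quotient.finite _
  have R := rgd_psl (F := F) (p := p) (cA n).toCoxeterSystem (isCartan n)
  refine big_of_rgd R (G1_psl_eq_top (cA n).toCoxeterSystem (isCartan n)) fun i => ?_
  have hab : i.castSucc ≠ i.succ := (Fin.castSucc_lt_succ).ne
  refine ⟨F, inferInstance, fun a => pr n F (tv i.castSucc i.succ a), hF, ?_, fun a => ?_⟩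
  · have h0 : ∀ a, pr n F (tv i.castSucc i.succ a) = 1 → a = 0 := by
      intro a ha
      have h1 : tv i.castSucc i.succ a ∈ (pr n F).ker := ha
      rw [ker_pr] at h1
      by_contra hne
      have h3 := Subgroup.mem_center_iff.1 h1 (tv i.succ i.castSucc 1)
      have h4 := congrArg (fun g : SpecialLinearGroup (Fin (n + 1)) F =>
        (g • (Pi.single i.castSucc 1 : Fin (n + 1) → F)) i.castSucc) h3
      rw [tv_of_ne hab, tv_of_ne hab.symm] at h4
      simp only [mul_smul, transvection_smul] at h4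
      simp [hab, hab.symm] at h4
      exact hne h4
    intro a b e
    have e' : pr n F (tv i.castSucc i.succ a) = pr n F (tv i.castSucc i.succ b) := e
    have h1 : pr n F (tv i.castSucc i.succ (a - b)) = 1 := by
      rw [sub_eq_add_neg, tv_add, map_mul, tv_neg, map_inv, e', mul_inv_cancel]
    exact sub_eq_zero.1 (h0 _ h1)
  · show pr n F (tv i.castSucc i.succ a) ∈ (X F (sr i)).map (pr n F)
    exact ⟨_, by rw [X_sr]; exact ⟨a, rfl⟩, rfl⟩

theorem big_psl {F : Type} [Field F] [Finite F] {p : ℕ} [CharP F p] {n : ℕ} (hn : 2 ≤ n)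
    (hF : 128 ≤ Nat.card F) : Big p (ProjectiveSpecialLinearGroup (Fin n) F) := by
  obtain ⟨m, rfl⟩ : ∃ m, n = m + 1 := ⟨n - 1, by omega⟩
  exact big_psl_succ hF

end PSL

/-! ### Groups modelled on a Witt frame -/

section Model

open Cfsg.Agent.LieClassical.HermBasic Cfsg.Agent.LieClassical.HermGen
open Cfsg.Agent.Nodes.TypeC Cfsg.Agent.Nodes.WittRoot Cfsg.Agent.Nodes.WittRGD Cfsg.Agent.Nodes.WittModel
  Cfsg.Agent.Nodes.WittU
open Cfsg.Agent.TitsThree Cfsg.Agent.TitsThree.Siegel Cfsg.Agent.TitsThree.SiegelGen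
  Cfsg.Agent.TitsThree.WittFrame Cfsg.Agent.TitsThree.WBridge Cfsg.Agent.TitsThree.WittWeyl
  Cfsg.Agent.TitsThree.FrameCN Cfsg.Agent.TitsThree.KSideU Cfsg.Agent.TitsThree.KSideUDesc
open Cfsg.Agent.FixBN.WittNodeA Cfsg.Agent.FixBN.WittNodeB Cfsg.Agent.FixBN.WittNodeC

section General

variable {F : Type} [Field F] [Finite F] {V : Type*} [AddCommGroup V] [Module F V] [Finite V] {H : HForm F V} {n : ℕ}
  {Fr : Frame H (Fin n)} {K : Type*} [Group K] (M : Model Fr K)

theorem big_of_model [Finite K] {p : ℕ} [Fact p.Prime] [CharP F p] (hp2 : Odd p)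
    (hA : Amb Fr M.I) {p0 : Fr.Adm} (hp0 : p0.c ≠ 0) (hn : 0 < n) (hF : 128 ≤ Nat.card F)
    (hlast : ∃ (E : Type) (_ : Finite E) (f : E → Fr.Adm), 128 ≤ Nat.card E ∧ Function.Injective f) : Big p K := by
  have hne : Nonempty (Fin n) := ⟨⟨0, hn⟩⟩
  have hfin : Finite (CoxeterMatrix.B n).Group := finite_W (CoxeterMatrix.B n).toCoxeterSystem
  have R := Nodes.WittModel.rgd M hA hp2 hp0 (CoxeterMatrix.B n).toCoxeterSystem
  refine big_of_rgd R (Nodes.WittModel.G1_eq_top M hn (CoxeterMatrix.B n).toCoxeterSystem) fun i => ?_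
  by_cases hi : (i : ℕ) + 1 < n
  · have hne' : ((i, true) : Fin n × Bool).1 ≠ (nx i).1 := by
      unfold nx; rw [dif_pos hi]; simp [Fin.ext_iff]
    refine ⟨F, inferInstance, M.X (i, true) (nx i), hF, ?_, fun a => (mem_X_I hi).2 ⟨a, rfl⟩⟩
    intro a b e
    have h1 : M.X (i, true) (nx i) (a - b) = 1 := by
      have h2 := X_add' M (i, true) (nx i) (a - b) b
      rw [sub_add_cancel, e] at h2
      exact (right_eq_mul.1 h2)
    exact sub_eq_zero.1 (X_eq_one M hne' h1)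
  · obtain ⟨E, _, f, h1, h2⟩ := hlast
    refine ⟨E, inferInstance, fun a => M.Z (i, true) (f a), h1, ?_, fun a => (mem_X_last hi).2 ⟨_, rfl⟩⟩
    intro a b e
    have e' : M.Z (i, true) (f a) = M.Z (i, true) (f b) := e
    have h3 : M.Z (i, true) (f a * (f b)⁻¹) = 1 := by
      have h4 := Z_mul' M (i, true) (f a * (f b)⁻¹) (f b)
      rw [inv_mul_cancel_right, e'] at h4
      exact (right_eq_mul.1 h4)
    exact h2 (mul_inv_eq_one.1 (Z_eq_one M h3))

end General

section Symplectic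

open SpIdent SpGen

theorem big_psp {F : Type} [Field F] [Finite F] {m : ℕ} (hm : 1 ≤ m) {p : ℕ}
    [Fact p.Prime] [CharP F p] (hp2 : Odd p) (hF : 128 ≤ Nat.card F) : Big p (PSp m F) := by
  have hfin : Finite (PSp m F) := Quotient.finite _
  have h10 : (SpIdent.adm 1 : (frame m F).Adm).c ≠ 0 := one_ne_zero
  refine big_of_model (KInstSp.model m F) hp2 amb_Sp h10 (by omega) hF
    ⟨F, inferInstance, SpIdent.adm, hF, fun a b e => ?_⟩
  exact congrArg (fun q : (frame m F).Adm => q.c) e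

end Symplectic

section Unitary

variable {F : Type} [Field F] [Fintype F] {q N : ℕ} (hF : Fintype.card F = q ^ 2) {m : ℕ} {p : ℕ} [Fact p.Prime]
  [CharP F p]

theorem big_psu_aux (hN : 3 ≤ N) (hp2 : Odd p) (W : WFrame (PU hF N) m) (hm : 0 < m) (hq : 128 ≤ q) :
    Big p (PSU N F q) := by
  have hfin : Finite (PSU N F q) := Quotient.finite _
  obtain ⟨c0, hc0, hc⟩ := exists_trace_zero_ne hF
  have hσc : c0 ^ q = -c0 := by linear_combination hc
  have hok : ∀ a : F, a ^ q = a → (toFrame W).ok 0 (a * c0) := by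
    intro a ha
    refine ⟨W.V0.zero_mem, ?_⟩
    rw [ok_iff, herm_zero_left, mul_pow, ha, hσc]
    ring
  let E := {x : F // x ^ q = x}
  have hE : ∀ a : E, (a : F) ^ q = a := fun a => a.2
  have hEc : Nat.card E = q := card_fixed hF
  let p0 : (toFrame W).Adm := ⟨0, 1 * c0, hok 1 (one_pow q)⟩
  have hp0 : p0.c ≠ 0 := by
    show 1 * c0 ≠ 0
    rwa [one_mul]
  refine big_of_model (KInstU.model hF hN W) hp2 (amb_U hF W) hp0 hm ?_
    ⟨E, inferInstance, fun a => ⟨0, (a : F) * c0, hok a (hE a)⟩, by rw [hEc]; exact hq, fun a b e => ?_⟩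
  · rw [Nat.card_eq_fintype_card, hF, sq]
    nlinarith
  · have h1 : (a : F) * c0 = b * c0 := congrArg (fun q : (toFrame W).Adm => q.c) e
    exact Subtype.ext (mul_right_cancel₀ hc0 h1)

include hF in
theorem big_psu (hN : 3 ≤ N) (hp2 : Odd p) (hq : 128 ≤ q) : Big p (PSU N F q) := by
  obtain ⟨m, hm⟩ : ∃ m, N = 2 * m ∨ N = 2 * m + 1 := ⟨N / 2, by omega⟩
  rcases hm with hm | hm
  · obtain ⟨W, hW⟩ := exists_wframe_even hF hm
    exact big_psu_aux hF hN hp2 W (by omega) hq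
  · obtain ⟨W, d, hd, hW⟩ := exists_wframe_odd hF hm
    exact big_psu_aux hF hN hp2 W (by omega) hq

end Unitary

end Model

/-! ### Orthogonal groups -/

section Orth

open QuadraticMap
open Cfsg.Agent.LieClassical Cfsg.Agent.LieClassical.OrthCore Cfsg.Agent.LieClassical.OrthTrans
open Cfsg.Agent.LieClassical.OrthSimple Cfsg.Agent.LieClassical.OrthFinite Cfsg.Agent.LieClassical.OrthForms
open Cfsg.Agent.ChevalleyStructure.CoxeterGeom Cfsg.Agent.Tits.Roots Cfsg.Agent.Nodes.TypeC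
open Cfsg.Agent.Nodes.Comb Cfsg.Agent.Nodes.Reps Cfsg.Agent.Nodes.WittRoot Cfsg.Agent.Nodes.BNOf
open Cfsg.Agent.Nodes.WittRGD Cfsg.Agent.Nodes.WittModel Cfsg.Agent.Nodes.WittU
open Cfsg.Agent.TitsThree Cfsg.Agent.TitsThree.Siegel Cfsg.Agent.TitsThree.SiegelGen
  Cfsg.Agent.TitsThree.WittFrame Cfsg.Agent.TitsThree.WBridge Cfsg.Agent.TitsThree.WittWeyl
  Cfsg.Agent.TitsThree.FrameCN Cfsg.Agent.TitsThree.KSideO
open Cfsg.Agent.FixBN.WittNodeA Cfsg.Agent.FixBN.WittNodeB Cfsg.Agent.FixBN.WittNodeC Cfsg.Agent.FixBN.WittNodeO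

variable {F : Type} [Field F] [Finite F] {p : ℕ} [Fact p.Prime] [CharP F p]

theorem big_odd {m : ℕ} (hm : 2 ≤ m) (hp2 : Odd p) (hF : 128 ≤ Nat.card F) :
    Big p (Cfsg.POmega F (Cfsg.quadFormOdd m F)) := by
  have h2 := two_ne_zero_of_odd (F := F) hp2
  rw [← coe_oddForm]
  have hfin : Finite (Cfsg.POmega F ⇑(oddForm m F)) := Quotient.finite _
  have hG : Good (oddForm m F) := by
    apply good_of_finite (nondeg_oddForm m F h2)
    rw [Module.finrank_fintype_fun_eq_card, Fintype.card_sum, Fintype.card_sum, Fintype.card_fin, Fintype.card_unit]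
    omega
  let d : Unit ⊕ (Fin m ⊕ Fin m) → F := Pi.single (Sum.inl ()) 1
  have hd : d ∈ (wodd m F).V0 := fun j => by simp [d]
  have hQ : ∀ a : F, oddForm m F (a • d) = a ^ 2 := by
    intro a
    rw [coe_oddForm, quadFormOdd_apply]
    simp [d]
  let f : F → (toFrame (wodd m F)).Adm := fun a =>
    ⟨a • d, -a ^ 2, Submodule.smul_mem _ _ hd, by rw [← hQ]; rfl⟩
  have hp0 : (f 1).c ≠ 0 := by show -(1 : F) ^ 2 ≠ 0; simp
  refine big_of_model (model (wodd m F) hG ⟨f 1, hp0⟩) hp2 (amb_O h2 _) hp0 (by omega) hF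
    ⟨F, inferInstance, f, hF, fun a b e => ?_⟩
  have h1 : a • d = b • d := congrArg (fun q : (toFrame (wodd m F)).Adm => q.w) e
  have h3 := congrFun h1 (Sum.inl ())
  simpa [d] using h3

open scoped QuadraticAlgebra in
theorem big_minus {m : ℕ} (hm : 2 ≤ m) (hp2 : Odd p) (a b : F)
    (hab : ∀ z₁ z₂ : F, z₁ ^ 2 + a * z₁ * z₂ + b * z₂ ^ 2 = 0 → z₁ = 0 ∧ z₂ = 0) (hF : 128 ≤ Nat.card F) :
    Big p (Cfsg.POmega F (Cfsg.quadFormMinus m F a b)) := by
  have h2 := two_ne_zero_of_odd (F := F) hp2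
  rw [← coe_minusForm]
  have hfin : Finite (Cfsg.POmega F ⇑(minusForm m F a b)) := Quotient.finite _
  have hG : Good (minusForm m F a b) := by
    apply good_of_finite (nondeg_minusForm m F a b hab)
    rw [Module.finrank_fintype_fun_eq_card, Fintype.card_sum, Fintype.card_sum, Fintype.card_fin,
      Fintype.card_fin]
    omega
  let f : QuadraticAlgebra F (-b) a → (toFrame (wminus m F a b hab)).Adm := fun z =>
    ⟨vec m a b z, -z.norm, vec_mem hab z, by rw [← form_vec (m := m)]; rfl⟩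
  have hp0 : (f 1).c ≠ 0 := by
    show -(1 : QuadraticAlgebra F (-b) a).norm ≠ 0
    rw [map_one]; simp
  refine big_of_model (model (wminus m F a b hab) hG ⟨f 1, hp0⟩) hp2 (amb_O h2 _) hp0 (by omega) hF
    ⟨F, inferInstance, fun x => f ⟨x, 0⟩, hF, fun x y e => ?_⟩
  have h1 : vec m a b ⟨x, 0⟩ = vec m a b ⟨y, 0⟩ := congrArg (fun q : (toFrame (wminus m F a b hab)).Adm => q.w) e
  exact congrArg QuadraticAlgebra.re (vec_injective h1)

end Orth

/-! ### Type `D` -/

section TypeDSec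

open QuadraticMap
open Cfsg.Agent.LieClassical Cfsg.Agent.LieClassical.OrthCore Cfsg.Agent.LieClassical.OrthTrans
open Cfsg.Agent.LieClassical.OrthSimple Cfsg.Agent.LieClassical.OrthFinite Cfsg.Agent.LieClassical.OrthForms
open Cfsg.Agent.TitsThree Cfsg.Agent.TitsThree.Siegel Cfsg.Agent.TitsThree.SiegelGen
  Cfsg.Agent.TitsThree.WittFrame Cfsg.Agent.TitsThree.WittWeyl Cfsg.Agent.TitsThree.WBridge
  Cfsg.Agent.TitsThree.KSideO
open Cfsg.Agent.Nodes
open Cfsg.Agent.Nodes.RGDLib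
open Cfsg.Agent.Nodes.WittRoot (Amb XG ZG PG Mono)
open Cfsg.Agent.Nodes.WittRGD (Tor mem_Tor b_ne_zero)
open Cfsg.Agent.Nodes.RGDOrth
open Cfsg.Agent.FixBN.WittNodeA Cfsg.Agent.FixBN.WittNodeB Cfsg.Agent.FixBN.WittNodeC Cfsg.Agent.FixBN.WittNodeD

variable {ι : Type} [Fintype ι] [DecidableEq ι] {F : Type} [Field F] {Q : QuadraticForm F (ι → F)}

theorem big_D [Finite F] (hG : Good Q) {p : ℕ} [Fact p.Prime] [CharP F p] (hp2 : Odd p) {m : ℕ}
    (W : WFrame (PO Q) (m + 2)) (h0 : ∀ p : (toFrame W).Adm, p = 1) (hF : 128 ≤ Nat.card F) :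
    Big p (Cfsg.POmega F ⇑Q) := by
  have h2 : (2 : F) ≠ 0 := two_ne_zero_of_odd hp2
  have hA := amb W h2
  have hW : Finite (TypeD.M m).Group := TypeD.finite_W (TypeD.M m).toCoxeterSystem
  have hfin : Finite ((ι → F) ≃ₗ[F] (ι → F)) :=
    Finite.of_injective (fun g : (ι → F) ≃ₗ[F] (ι → F) => (g : (ι → F) → (ι → F))) DFunLike.coe_injective
  have hK : Finite (Cfsg.POmega F ⇑Q) := Quotient.finite _
  have hle : ∀ x, WittRGDD.rg (toFrame W) x ≤ E Q := fun x => iSup_le fun q => by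
    rintro _ ⟨t, rfl⟩; exact hA.X_mem _ _ _
  have R := WittRGDD.rgd hA hp2 h0 (TypeD.M m).toCoxeterSystem
  have hgen0 : E Q ≤ G1 (TypeD.M m).toCoxeterSystem (TypeD.isCartan m) (WittRGDD.rg (toFrame W)) := by
    set K := G1 (TypeD.M m).toCoxeterSystem (TypeD.isCartan m) (WittRGDD.rg (toFrame W)) with hK
    have key : ∀ a b : Fin (m + 2) × Bool, TypeD.Ok a b → ∀ t, (toFrame W).X a b t ∈ K := by
      intro a b hab t
      obtain ⟨z, hz, ez⟩ := TypeD.rt_of_ok (cs := (TypeD.M m).toCoxeterSystem) hab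
      have h1 : XG (toFrame W) a b ≤ K := by
        rw [← WittRGDD.rg_eq (toFrame W) hab ez]
        exact X_le_G1 hz
      exact h1 ⟨t, rfl⟩
    have hkl : (0 : Fin (m + 2)) ≠ 1 := by simp
    refine E_le_of_contains W (contains_D W 0 1 hkl ?_ ?_ h0)
    · intro i j hij t
      have hne : i ≠ j := fun h => by rw [h] at hij; omega
      exact ⟨key (i, true) (j, false) hne t, key (j, true) (i, false) hne.symm t⟩
    · intro t
      exact ⟨key (0, true) (1, true) hkl t, key (0, false) (1, false) hkl t⟩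
  have R1 := rgd_restrict R (E Q) (fun x _ => hle x) (fun i => WittRGDD.nn_mem hA i)
  have R2 := rgd_map_of_ker_le_center R1 (toPOmega hG) fun g hg => center_of_toPOmega hG hg
  have e1 : G1 (TypeD.M m).toCoxeterSystem (TypeD.isCartan m)
      (fun x => (WittRGDD.rg (toFrame W) x).subgroupOf (E Q)) = ⊤ := by
    have e2 : (G1 (TypeD.M m).toCoxeterSystem (TypeD.isCartan m) (WittRGDD.rg (toFrame W))).subgroupOf (E Q) =
        G1 (TypeD.M m).toCoxeterSystem (TypeD.isCartan m)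
          (fun x => (WittRGDD.rg (toFrame W) x).subgroupOf (E Q)) := by
      unfold G1 RGD.Sup
      exact iSup_subgroupOf
        (fun z : {x | IsRoot (TypeD.M m).toCoxeterSystem (TypeD.isCartan m) x} => WittRGDD.rg (toFrame W) z.1)
        fun z => hle z.1
    rw [← e2]
    exact Subgroup.subgroupOf_eq_top.2 hgen0
  have e3 : (G1 (TypeD.M m).toCoxeterSystem (TypeD.isCartan m)
      (fun x => (WittRGDD.rg (toFrame W) x).subgroupOf (E Q))).map (toPOmega hG) =
      G1 (TypeD.M m).toCoxeterSystem (TypeD.isCartan m)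
        (fun x => ((WittRGDD.rg (toFrame W) x).subgroupOf (E Q)).map (toPOmega hG)) := by
    unfold G1 RGD.Sup
    rw [Subgroup.map_iSup]
  refine big_of_rgd R2 (by
    rw [← e3, e1, Subgroup.map_top_of_surjective _ (toPOmega_surjective hG)]) fun i => ?_
  have hne : ((i, true) : Fin (m + 2) × Bool).1 ≠ (TypeD.nx i).1 := TypeD.ok_nx i
  have hmem : ∀ a : F, toPOmega hG ⟨(toFrame W).X (i, true) (TypeD.nx i) a, hA.X_mem _ _ _⟩ ∈
      ((WittRGDD.rg (toFrame W) (sr i)).subgroupOf (E Q)).map (toPOmega hG) := by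
    intro a
    refine ⟨_, ?_, rfl⟩
    show (toFrame W).X (i, true) (TypeD.nx i) a ∈ WittRGDD.rg (toFrame W) (sr i)
    rw [WittRGDD.rg_sr]
    exact ⟨a, rfl⟩
  refine ⟨F, inferInstance, _, hF, ?_, hmem⟩
  have h10 : ∀ a, toPOmega hG ⟨(toFrame W).X (i, true) (TypeD.nx i) a, hA.X_mem _ _ _⟩ = 1 → a = 0 := by
    intro a ha
    have h3 := center_of_toPOmega hG ha
    have h4 := eq_one_of_comm R1 i (x := ⟨(toFrame W).X (i, true) (TypeD.nx i) a, hA.X_mem _ _ _⟩) (by
      show (toFrame W).X (i, true) (TypeD.nx i) a ∈ WittRGDD.rg (toFrame W) (sr i)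
      rw [WittRGDD.rg_sr]
      exact ⟨a, rfl⟩) (Subgroup.mem_center_iff.1 h3 _)
    have h5 : (toFrame W).X (i, true) (TypeD.nx i) a = 1 := congrArg Subtype.val h4
    have h6 := X_apply_neg (toFrame W) hne a
    rw [h5] at h6
    have h7 : a • (toFrame W).b (i, true) = 0 := by
      have h8 : (toFrame W).b (neg (TypeD.nx i)) = (toFrame W).b (neg (TypeD.nx i)) + a • (toFrame W).b (i, true) := h6
      exact (add_eq_left.1 h8.symm)
    exact (smul_eq_zero.1 h7).resolve_right (b_ne_zero _)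
  intro a b e
  have hadd : ∀ a b, toPOmega hG ⟨(toFrame W).X (i, true) (TypeD.nx i) (a + b), hA.X_mem _ _ _⟩ =
      toPOmega hG ⟨(toFrame W).X (i, true) (TypeD.nx i) a, hA.X_mem _ _ _⟩ *
        toPOmega hG ⟨(toFrame W).X (i, true) (TypeD.nx i) b, hA.X_mem _ _ _⟩ := by
    intro a b
    rw [← map_mul]
    exact congrArg _ (Subtype.ext ((toFrame W).X_add _ _ _ _))
  have h1 := hadd (a - b) b
  have h1' : toPOmega hG ⟨(toFrame W).X (i, true) (TypeD.nx i) (a - b + b), hA.X_mem _ _ _⟩ =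
      toPOmega hG ⟨(toFrame W).X (i, true) (TypeD.nx i) b, hA.X_mem _ _ _⟩ := by
    simp only [sub_add_cancel]
    exact e
  rw [h1'] at h1
  exact sub_eq_zero.1 (h10 _ (right_eq_mul.1 h1))

theorem big_plus {F : Type} [Field F] [Finite F] {p : ℕ} [Fact p.Prime] [CharP F p] (hp2 : Odd p) {m : ℕ}
    (hm : 3 ≤ m) (hF : 128 ≤ Nat.card F) : Big p (Cfsg.POmega F (Cfsg.quadFormPlus m F)) := by
  rw [← coe_plusForm]
  have hG : Good (plusForm m F) := by
    apply good_of_finite (nondeg_plusForm m F)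
    rw [Module.finrank_fintype_fun_eq_card, Fintype.card_sum, Fintype.card_fin]
    omega
  obtain ⟨m, rfl⟩ : ∃ k, m = k + 2 := ⟨m - 2, by omega⟩
  exact big_D hG hp2 (wplus (m + 2) F) (wplus_adm _ F) hF

end TypeDSec

end Cfsg.Agent.H277.Big
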