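import Mathlib
import Cfsg.Agent.H277.Inv

/-!
# The group of fixed points of a frame automorphism is small

* `card_fixed_lt` : `β` an automorphism of the frame, trivial on the types, whose groups of fixed points on the simple
  root groups `X (sr i)` have order `c` with `3 ≤ c` and `c ^ 5 ≤ |X (sr i)|`. Then `|W| |C(β)| < |U|`;
* `exists_moved` : then `β` is not trivial on the centraliser of an involution.
-/

set_option autoImplicit false
set_option linter.unusedSectionVars false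

namespace Cfsg.Agent.H277.Fixed

open CoxeterSystem Cfsg.Agent.ChevalleyStructure.CoxeterGeom Cfsg.Agent.Tits.Roots Cfsg.Agent.Tits.Core
  Cfsg.Agent.Tits.RootComb Cfsg.Agent.Tits.Exchange Cfsg.Agent.Nodes.Reps Cfsg.Agent.Nodes.BNOf
  Cfsg.Agent.Nodes.Comb Cfsg.Agent.Nodes.BNOf.RGD Cfsg.Agent.Nodes.Unique Cfsg.Agent.Nodes.CardSup
  Cfsg.Agent.Nodes.StabComb Cfsg.Agent.Nodes.Bruhat Cfsg.Agent.Nodes.OppDec Cfsg.Agent.Nodes.LeviDec
  Cfsg.Agent.Nodes.NormalForm Cfsg.Agent.KFacts.RgdOpp Cfsg.Agent.KFacts.RgdAut Cfsg.Agent.KFacts.RgdDiag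
  Cfsg.Agent.KFacts.RgdRigid Cfsg.Agent.CpAut.RgdFix Cfsg.Agent.CpAut.RgdCoh Cfsg.Agent.CpAut.RgdConj
  Cfsg.Agent.BpExc.TorRgd Cfsg.Agent.H277.Inv
open scoped commutatorElement Pointwise

theorem arith {N w f t c u : ℕ} (hw : w ≤ 2 ^ N) (hf : f ≤ w * (c * (t * c))) (ht : t ≤ c) (hc : 4 ^ N * c < c ^ 3)
    (hc0 : 0 < c) (hu : c ^ 5 ≤ u) : w * f < u := by
  have e4 : (2 ^ N) ^ 2 = 4 ^ N := by rw [← pow_mul, mul_comm N 2, pow_mul]; norm_num
  calc w * f ≤ w * (w * (c * (t * c))) := Nat.mul_le_mul_left _ hf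
    _ = w ^ 2 * t * c ^ 2 := by ring
    _ ≤ (2 ^ N) ^ 2 * c * c ^ 2 := Nat.mul_le_mul_right _ (Nat.mul_le_mul (Nat.pow_le_pow_left hw 2) ht)
    _ = (4 ^ N * c) * c ^ 2 := by rw [e4]
    _ < c ^ 3 * c ^ 2 := Nat.mul_lt_mul_of_pos_right hc (by positivity)
    _ = c ^ 5 := by ring
    _ ≤ _ := hu

variable {I W Y : Type*} [Fintype I] [DecidableEq I] [Group W] [Group Y] {M : CoxeterMatrix I}
  {cs : CoxeterSystem M W} {A : I → I → ℤ} {h : IsCartan M A} {p : ℕ} {T : Subgroup Y} {n : I → Y}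
  {X : (I → ℤ) → Subgroup Y}

variable (R : RGD cs h p T n X)

include R

/-- A fixed element of a simple root group gives a fixed representative of the reflection. -/
theorem exists_rep_neg [Finite W] {β : MulAut Y} (D : Diag T X β 1) {i : I} {v : Y} (hv : v ∈ X (-sr i)) (hv1 : v ≠ 1)
    (hvf : β v = v) : ∃ k, β k = k ∧ Rp cs R.nsys (cs.simple i) k := by
  obtain ⟨a, ha, t, ht, b, hb, e⟩ := R.rk1 i v hv hv1
  have hk : Rp cs R.nsys (cs.simple i) (t * n i) := by
    have := (rp_of_mem (cs := cs) (hN := R.nsys) ht).mul (rp_simple cs R.nsys i)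
    rwa [one_mul] at this
  have e' : v = a * (t * n i) * b := by rw [e]; group
  obtain ⟨-, h2, -⟩ := fix_form R D (u := a) (k := t * n i) (v := b)
    (RGD.le_Sup (S := RGD.Pos cs h) ⟨isRoot_sr cs h i, sr_nonneg i⟩ ha) hk
    (RGD.le_Sup (sr_mem_NW R i) hb) (by rw [← e', hvf])
  exact ⟨t * n i, h2, hk⟩

omit R in
theorem diag_opp {β : MulAut Y} (D : Diag T X β 1) : Diag T (fun x => X (-x)) β 1 :=
  ⟨D.tor, fun i x => D.neg i x, fun i x => by
    show β x ∈ X (- -sr _) ↔ x ∈ X (- -sr _)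
    rw [neg_neg, neg_neg]
    exact D.pos i x⟩

theorem exists_rep_pos [Finite W] {β : MulAut Y} (D : Diag T X β 1) {i : I} {v : Y} (hv : v ∈ X (sr i)) (hv1 : v ≠ 1)
    (hvf : β v = v) : ∃ k, β k = k ∧ Rp cs R.nsys (cs.simple i) k := by
  have h1 : v ∈ (fun x => X (-x)) (-sr i) := by
    show v ∈ X (- -sr i)
    rwa [neg_neg]
  exact exists_rep_neg (opp R) (diag_opp D) h1 hv1 hvf

omit R in
theorem exists_ne_one_of_card {H : Subgroup Y} (hH : 2 ≤ Nat.card ↥H) : ∃ v ∈ H, v ≠ 1 := by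
  have h1 : H ≠ ⊥ := by
    intro h1
    rw [h1, Subgroup.card_bot] at hH
    omega
  obtain ⟨⟨v, hv⟩, hv1⟩ := Subgroup.ne_bot_iff_exists_ne_one.1 h1
  exact ⟨v, hv, fun e => hv1 (Subtype.ext e)⟩

/-- Fixed representatives of the elements of the Weyl group. -/
theorem exists_rep [Finite W] {β : MulAut Y} (D : Diag T X β 1) (hc : ∀ i, 2 ≤ Nat.card ↥(XF X β (sr i)))
    (w : W) : ∃ k, β k = k ∧ Rp cs R.nsys w k := by
  have hs : ∀ i, ∃ k, β k = k ∧ Rp cs R.nsys (cs.simple i) k := by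
    intro i
    obtain ⟨v, hv, hv1⟩ := exists_ne_one_of_card (hc i)
    exact exists_rep_pos R D hv.1 hv1 hv.2
  obtain ⟨ω, rfl⟩ := cs.wordProd_surjective w
  induction ω with
  | nil =>
    refine ⟨1, map_one β, ?_⟩
    rw [wordProd_nil]
    exact rp_of_mem (cs := cs) (hN := R.nsys) (one_mem T)
  | cons j ω ih =>
    obtain ⟨k, hk1, hk2⟩ := ih
    obtain ⟨l, hl1, hl2⟩ := hs j
    refine ⟨l * k, by rw [map_mul, hl1, hk1], ?_⟩
    rw [wordProd_cons]
    exact hl2.mul hk2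

/-- The fixed points on the root groups. -/
theorem card_XF_rep [Finite W] {β : MulAut Y} (D : Diag T X β 1) (hc : ∀ i, 2 ≤ Nat.card ↥(XF X β (sr i)))
    (w : W) {x : I → ℤ} (hx : IsRoot cs h x) : Nat.card ↥(XF X β (rep cs h w x)) = Nat.card ↥(XF X β x) := by
  obtain ⟨k, hk1, hk2⟩ := exists_rep R D hc w
  have e : XF X β (rep cs h w x) = cj k (XF X β x) := by
    ext y
    rw [mem_cj, mem_XF, mem_XF]
    constructor
    · rintro ⟨h1, h2⟩
      refine ⟨?_, by rw [map_mul, map_mul, map_inv, hk1, h2]⟩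
      have := R.conj_mem' hk2 (hx.act w) h1
      rwa [rep_inv_apply] at this
    · rintro ⟨h1, h2⟩
      have h3 := R.conj_mem hk2 hx h1
      have e1 : k * (k⁻¹ * y * k) * k⁻¹ = y := by group
      rw [e1] at h3
      refine ⟨h3, ?_⟩
      rw [map_mul, map_mul, map_inv, hk1] at h2
      exact mul_left_cancel (mul_right_cancel h2)
  rw [e, card_cj]

/-- The number of the fixed points. -/
theorem card_fixed_le [Finite W] [Finite Y] (hG : GG cs h T X = ⊤) {β : MulAut Y} (D : Diag T X β 1)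
    (hc : ∀ i, 2 ≤ Nat.card ↥(XF X β (sr i))) :
    Nat.card ↥(fixedSubgroup β) ≤ Nat.card W * (Nat.card ↥(Sup X (Pos cs h) ⊓ fixedSubgroup β) *
      (Nat.card ↥(T ⊓ fixedSubgroup β) * Nat.card ↥(Sup X (Pos cs h) ⊓ fixedSubgroup β))) := by
  classical
  choose l hl1 hl2 using exists_rep R D hc
  have key : ∀ g : ↥(fixedSubgroup β), ∃ q : W × ↥(Sup X (Pos cs h) ⊓ fixedSubgroup β) ×
      ↥(T ⊓ fixedSubgroup β) × ↥(Sup X (Pos cs h) ⊓ fixedSubgroup β),
      (g : Y) = q.2.1 * (l q.1 * q.2.2.1) * q.2.2.2 := by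
    rintro ⟨g, hg⟩
    have hgG : g ∈ GG cs h T X := by rw [hG]; exact Subgroup.mem_top g
    obtain ⟨w, hw⟩ := (mem_GG R).1 hgG
    obtain ⟨u, hu, k, hk, v, hv, rfl⟩ := exists_normal_form R hw
    obtain ⟨h1, h2, h3⟩ := fix_form R D hu hk hv hg
    have hlk : (l w)⁻¹ * k ∈ T := (hl2 w).unique hk
    refine ⟨⟨w, ⟨u, hu, h1⟩, ⟨(l w)⁻¹ * k, hlk, ?_⟩, ⟨v, ?_, h3⟩⟩, ?_⟩
    · show β ((l w)⁻¹ * k) = (l w)⁻¹ * k
      rw [map_mul, map_inv, hl1, h2]
    · exact RGD.Sup_mono (S := NW cs h w) (S' := Pos cs h) (fun x hx => ⟨hx.1, hx.2.1⟩) hv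
    · show u * k * v = u * (l w * ((l w)⁻¹ * k)) * v
      rw [mul_inv_cancel_left]
  choose q hq using key
  have hinj : Function.Injective q := by
    intro a b e
    apply Subtype.ext
    rw [hq a, hq b, e]
  have h1 := Nat.card_le_card_of_injective q hinj
  rw [Nat.card_prod, Nat.card_prod, Nat.card_prod] at h1
  exact h1

/-- Elements of `T` trivial on the simple root groups are central. -/
theorem eq_one_of_comm [Finite W] (hG1 : Sup X {x | IsRoot cs h x} = ⊤) (hZ : Subgroup.center Y = ⊥) {t : Y}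
    (ht : t ∈ T) (hi : ∀ i, ∀ x ∈ X (sr i), t * x = x * t) : t = 1 := by
  have D : Diag T X (MulAut.conj t) 1 := by
    refine ⟨fun x => ?_, fun i x => ?_, fun i x => ?_⟩
    · rw [MulAut.conj_apply]
      constructor
      · intro h1
        have := mul_mem (mul_mem (inv_mem ht) h1) ht
        have e : t⁻¹ * (t * x * t⁻¹) * t = x := by group
        rwa [e] at this
      · intro h1
        exact mul_mem (mul_mem ht h1) (inv_mem ht)
    · rw [Equiv.Perm.one_apply, MulAut.conj_apply]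
      have h1 := R.tor _ (isRoot_sr cs h i) t ht
      have h2 : t * x * t⁻¹ ∈ cj t (X (sr i)) ↔ x ∈ X (sr i) := conj_mem_cj
      rwa [h1] at h2
    · rw [Equiv.Perm.one_apply, MulAut.conj_apply]
      have h1 := R.tor _ (isRoot_sr cs h i).neg t ht
      have h2 : t * x * t⁻¹ ∈ cj t (X (-sr i)) ↔ x ∈ X (-sr i) := conj_mem_cj
      rwa [h1] at h2
  have h1 := Diag.eq_one R hG1 D (fun i x hx => by
    rw [MulAut.conj_apply, hi i x hx, mul_inv_cancel_right])
  have h2 : t ∈ Subgroup.center Y := by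
    rw [Subgroup.mem_center_iff]
    intro g
    have h3 : MulAut.conj t g = g := by rw [h1]; rfl
    rw [MulAut.conj_apply, mul_inv_eq_iff_eq_mul] at h3
    exact h3.symm
  rw [hZ, Subgroup.mem_bot] at h2
  exact h2

/-- The fixed points on the torus. -/
theorem card_tor_le [Finite W] [Finite Y] (hG1 : Sup X {x | IsRoot cs h x} = ⊤) (hZ : Subgroup.center Y = ⊥)
    {β : MulAut Y}
    (hv : ∀ i, ∃ v ∈ XF X β (sr i), ∀ t ∈ T, β t = t → t * v = v * t → ∀ x ∈ X (sr i), t * x = x * t) :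
    Nat.card ↥(T ⊓ fixedSubgroup β) ≤ ∏ i, Nat.card ↥(XF X β (sr i)) := by
  classical
  choose v hv1 hv2 using hv
  rw [← Nat.card_pi]
  refine Nat.card_le_card_of_injective (fun t i => ⟨(t : Y) * v i * (t : Y)⁻¹, ?_, ?_⟩) ?_
  · have h1 := R.tor _ (isRoot_sr cs h i) t t.2.1
    have h2 : (t : Y) * v i * (t : Y)⁻¹ ∈ cj (t : Y) (X (sr i)) := conj_mem_cj.2 (hv1 i).1
    rwa [h1] at h2
  · have h1 : β (t : Y) = t := t.2.2
    have h2 : β (v i) = v i := (hv1 i).2
    show β ((t : Y) * v i * (t : Y)⁻¹) = _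
    rw [map_mul, map_mul, map_inv, h1, h2]
  · intro t s e
    have h1 : ∀ i, (t : Y) * v i * (t : Y)⁻¹ = (s : Y) * v i * (s : Y)⁻¹ := fun i =>
      congrArg Subtype.val (congrFun e i)
    have h2 : (s : Y)⁻¹ * t = 1 := by
      have hst : (s : Y)⁻¹ * t ∈ T := mul_mem (inv_mem s.2.1) t.2.1
      have hf : β ((s : Y)⁻¹ * t) = (s : Y)⁻¹ * t := by
        have h3 : β (t : Y) = t := t.2.2
        have h4 : β (s : Y) = s := s.2.2
        rw [map_mul, map_inv, h3, h4]
      refine eq_one_of_comm R hG1 hZ hst fun i => hv2 i _ hst hf ?_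
      calc (s : Y)⁻¹ * t * v i = (s : Y)⁻¹ * ((t : Y) * v i * (t : Y)⁻¹) * t := by group
        _ = (s : Y)⁻¹ * ((s : Y) * v i * (s : Y)⁻¹) * t := by rw [h1]
        _ = v i * ((s : Y)⁻¹ * t) := by group
    exact Subtype.ext (inv_mul_eq_one.1 h2).symm

/-- **The fixed point group is small.** -/
theorem card_fixed_lt [Finite W] [Finite Y] [Nonempty I] (hG1 : Sup X {x | IsRoot cs h x} = ⊤)
    (hZ : Subgroup.center Y = ⊥) {β : MulAut Y} (D : Diag T X β 1)
    (hc : ∀ i, 3 ≤ Nat.card ↥(XF X β (sr i)))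
    (h5 : ∀ i, Nat.card ↥(XF X β (sr i)) ^ 5 ≤ Nat.card ↥(X (sr i)))
    (hv : ∀ i, ∃ v ∈ XF X β (sr i), ∀ t ∈ T, β t = t → t * v = v * t → ∀ x ∈ X (sr i), t * x = x * t) :
    Nat.card W * Nat.card ↥(fixedSubgroup β) < Nat.card ↥(Sup X (Pos cs h)) := by
  classical
  have hc2 : ∀ i, 2 ≤ Nat.card ↥(XF X β (sr i)) := fun i => by have := hc i; omega
  have hG := GG_eq_top (T := T) hG1
  have hfin := finite_pos (cs := cs) (h := h)
  set P := hfin.toFinset with hP
  have hPc : (P : Set (I → ℤ)) = Pos cs h := by rw [hP, Set.Finite.coe_toFinset]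
  have hPr : ∀ x ∈ P, IsRoot cs h x := fun x hx => ((Set.Finite.mem_toFinset _).1 hx).1
  have h1 := card_sup R (s := P) (by rw [hPc]) (by rw [hPc]; exact closed_pos)
  have h2 := card_fix_sup R D (s := P) (by rw [hPc]) (by rw [hPc]; exact closed_pos)
  rw [hPc] at h1 h2
  have h3 : Nat.card W ≤ 2 ^ P.card := by
    have := card_W_le (cs := cs) (h := h)
    rwa [Set.ncard_eq_toFinset_card _ hfin] at this
  have h4 := card_fixed_le R hG D hc2
  have h6 := card_tor_le R hG1 hZ hv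
  rw [h2] at h4
  have hroot : ∀ x ∈ P, 3 ≤ Nat.card ↥(XF X β x) ∧ Nat.card ↥(XF X β x) ^ 5 ≤ Nat.card ↥(X x) := by
    intro x hx
    obtain ⟨w, i, rfl⟩ := hPr x hx
    rw [card_XF_rep R D hc2 w (isRoot_sr cs h i), card_X_rep R w (isRoot_sr cs h i)]
    exact ⟨hc i, h5 i⟩
  -- the simple roots
  have h7 : ∏ i, Nat.card ↥(XF X β (sr i)) ≤ ∏ x ∈ P, Nat.card ↥(XF X β x) := by
    have hinj : Function.Injective (fun i : I => (sr i : I → ℤ)) := by
      intro i j e
      by_contra hne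
      have h8 := congrFun e i
      simp only at h8
      rw [sr_self, sr_ne hne] at h8
      exact one_ne_zero h8
    rw [← Finset.prod_image (f := fun x => Nat.card ↥(XF X β x)) (s := Finset.univ) (g := fun i : I => (sr i : I → ℤ))
      (fun i _ j _ e => hinj e)]
    refine Finset.prod_le_prod_of_subset_of_one_le' ?_ ?_
    · intro x hx
      obtain ⟨i, -, rfl⟩ := Finset.mem_image.1 hx
      exact (Set.Finite.mem_toFinset _).2 ⟨isRoot_sr cs h i, sr_nonneg i⟩
    · intro x hx _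
      have := (hroot x hx).1
      omega
  have hPne : P.Nonempty := by
    obtain ⟨i⟩ := (inferInstance : Nonempty I)
    exact ⟨sr i, (Set.Finite.mem_toFinset _).2 ⟨isRoot_sr cs h i, sr_nonneg i⟩⟩
  set c := ∏ x ∈ P, Nat.card ↥(XF X β x) with hcdef
  have hc0 : 0 < c := Finset.prod_pos fun x hx => by have := (hroot x hx).1; omega
  have h8 : 4 ^ P.card * c < c ^ 3 := by
    rw [hcdef, ← Finset.prod_pow, ← Finset.prod_const, ← Finset.prod_mul_distrib]
    refine Finset.prod_lt_prod_of_nonempty (fun x hx => ?_) (fun x hx => ?_) hPne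
    · have := (hroot x hx).1
      positivity
    · have := (hroot x hx).1
      nlinarith [mul_le_mul this this (by norm_num) (by positivity)]
  have h9 : c ^ 5 ≤ Nat.card ↥(Sup X (Pos cs h)) := by
    rw [h1, hcdef, ← Finset.prod_pow]
    exact Finset.prod_le_prod' fun x hx => (hroot x hx).2
  exact arith h3 h4 (h6.trans h7) h8 hc0 h9

/-- **A frame automorphism with few fixed points moves an element of the centraliser of an involution.** -/
theorem exists_moved [Finite W] [Finite Y] [Fact p.Prime] [Nonempty I] (hG1 : Sup X {x | IsRoot cs h x} = ⊤)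
    (hZ : Subgroup.center Y = ⊥) {β : MulAut Y} (D : Diag T X β 1)
    (hc : ∀ i, 3 ≤ Nat.card ↥(XF X β (sr i)))
    (h5 : ∀ i, Nat.card ↥(XF X β (sr i)) ^ 5 ≤ Nat.card ↥(X (sr i)))
    (hv : ∀ i, ∃ v ∈ XF X β (sr i), ∀ t ∈ T, β t = t → t * v = v * t → ∀ x ∈ X (sr i), t * x = x * t)
    {t : Y} (ht : t * t = 1) : ∃ c ∈ Subgroup.centralizer ({t} : Set Y), β c ≠ c := by
  by_contra hcon
  push Not at hcon
  have h1 := card_cent R (GG_eq_top (T := T) hG1) ht
  have h2 := card_fixed_lt R hG1 hZ D hc h5 hv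
  have h3 : Nat.card ↥(Subgroup.centralizer ({t} : Set Y)) ≤ Nat.card ↥(fixedSubgroup β) :=
    Nat.card_le_card_of_injective (Subgroup.inclusion (fun x hx => hcon x hx)) (Subgroup.inclusion_injective _)
  have h4 := Nat.mul_le_mul_left (Nat.card W) h3
  omega

end Cfsg.Agent.H277.Fixed
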