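import Mathlib
import Cfsg.Agent.H277.CoordNode
import Cfsg.Agent.H967.CopRow
import Cfsg.Agent.CpAut.RgdUntw

/-!
# Chevalley groups of exceptional type, odd characteristic

A coprime automorphism of `D.group K` moves an element of the centraliser of each involution.
-/

set_option autoImplicit false
set_option linter.unusedSectionVars false

namespace Cfsg.Agent.H277.ExcChev

open CoxeterSystem Cfsg.Agent.ChevalleyStructure.CoxeterGeom Cfsg.Agent.Tits.Roots Cfsg.Agent.Tits.Core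
  Cfsg.Agent.Nodes.Reps Cfsg.Agent.Nodes.BNOf
  Cfsg.Agent.Nodes.OppDec Cfsg.Agent.Nodes.RGDChev
  Cfsg.Agent.KFacts.RgdAut Cfsg.Agent.KFacts.RgdDiag Cfsg.Agent.KFacts.RgdRigid
  Cfsg.Agent.KFacts.RgdField Cfsg.Agent.KFacts.RgdTau Cfsg.Agent.KFacts.RgdChevCoord
  Cfsg.Agent.CpAut.RgdFix Cfsg.Agent.CpAut.RgdCoh Cfsg.Agent.CpAut.RgdConj Cfsg.Agent.CpAut.RgdSub
  Cfsg.Agent.CpAut.RgdUntw
open Cfsg.Lie Cfsg.Agent.ChevalleyStructure Cfsg.Agent.ChevalleyStructure.Elts
  Cfsg.Agent.ChevalleyStructure.NPerm Cfsg.Agent.ChevalleyStructure.CoxeterGeomTypes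
  Cfsg.Agent.ChevStructure.FieldMap

/-- The conclusion: a coprime automorphism moves an element of the centraliser of each involution. -/
def Moves (G : Type*) [Group G] : Prop :=
  ∀ (α : MulAut G), (orderOf α).Prime → (orderOf α).Coprime (Nat.card G) → 5 ≤ orderOf α →
    ¬ 2 ∣ orderOf α → ¬ 3 ∣ orderOf α → ∀ t : G, t * t = 1 →
    ∃ c ∈ Subgroup.centralizer ({t} : Set G), α c ≠ c

/-- Transport of the conclusion. -/
theorem moved_of_equiv {G H : Type*} [Group G] [Group H] (e : G ≃* H) {α : MulAut G} {β : MulAut H}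
    (he : ∀ x, e (α x) = β (e x)) {t : G} (h : ∃ c ∈ Subgroup.centralizer ({e t} : Set H), β c ≠ c) :
    ∃ c ∈ Subgroup.centralizer ({t} : Set G), α c ≠ c := by
  obtain ⟨c, hc, hne⟩ := h
  refine ⟨e.symm c, ?_, ?_⟩
  · rw [Subgroup.mem_centralizer_singleton_iff] at hc ⊢
    apply e.injective
    rw [map_mul, map_mul, e.apply_symm_apply]
    exact hc
  · intro h1
    apply hne
    have h2 := he (e.symm c)
    rw [h1, e.apply_symm_apply] at h2
    exact h2.symm

theorem Moves.congr {G H : Type*} [Group G] [Group H] (e : G ≃* H) (h : Moves H) : Moves G := by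
  intro α hr hα h5 h2 h3 t ht
  have ho : orderOf (MulAut.congr e α) = orderOf α :=
    orderOf_injective (MulAut.congr e).toMonoidHom (MulAut.congr e).injective α
  refine moved_of_equiv e (β := MulAut.congr e α) (fun x => ?_)
    (h (MulAut.congr e α) (by rw [ho]; exact hr) ?_ (by rw [ho]; exact h5) (by rw [ho]; exact h2) (by rw [ho]; exact h3) (e t) (by rw [← map_mul, ht, map_one]))
  · show _ = e (α (e.symm (e x)))
    rw [e.symm_apply_apply]
  · rw [ho, ← Nat.card_congr e.toEquiv]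
    exact hα

variable {D : ChevalleyDatum} {l : ℕ} {M : CoxeterMatrix (Fin l)} (hp : IsType D l M) {K : Type} [Field K]

include hp in
/-- **The field automorphisms of `D.group K`.** -/
theorem moved_fld [Finite K] (p : ℕ) [Fact p.Prime] [CharP K p] (hp2 : p ≠ 2) [Nonempty (Fin l)]
    [IsSimpleGroup ↥(D.group K)] (hc : ∃ a b : ↥(D.group K), a * b ≠ b * a) (σ : K ≃+* K) (hσ : 5 ≤ orderOf σ)
    {t : ↥(D.group K)} (ht : t * t = 1) : ∃ c ∈ Subgroup.centralizer ({t} : Set ↥(D.group K)), fld D σ c ≠ c := by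
  have hpp : p.Prime := Fact.out
  have hW := finite_W hp (M.toCoxeterSystem)
  have R := rgd (K := K) hp M.toCoxeterSystem p
  have hG1 : RGD.Sup (XX D l K) {x | IsRoot M.toCoxeterSystem hp.isCartan x} = ⊤ := G1_eq_top hp M.toCoxeterSystem
  have hZ : Subgroup.center ↥(D.group K) = ⊥ := KFacts.RgdLieCharP.center_eq_bot hc
  have hconn := KFacts.RgdLieCharP.conn_of_simple R hG1 hZ
  have C := coords (K := K) hp M.toCoxeterSystem p
  have H := coroots (K := K) hp M.toCoxeterSystem p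
  have h2 : (2 : K) ≠ 0 := by
    intro h0
    have h1 : ((2 : ℕ) : K) = 0 := by exact_mod_cast h0
    rw [CharP.cast_eq_zero_iff K p] at h1
    exact hp2 ((Nat.prime_dvd_prime_iff_eq hpp Nat.prime_two).1 h1)
  have hstd : ∀ r, IsRoot M.toCoxeterSystem hp.isCartan r → ∀ a, fld D σ (xc hp r a) = xc hp r (σ a) := by
    intro r hr a
    obtain ⟨s, hs, rfl⟩ := (isRoot_iff hp M.toCoxeterSystem r).1 hr
    exact fld_xc hp σ hs a
  have S := tau_of_std R hG1 C H hconn hstd
  refine CoordNode.moved_of_nodes R hG1 hZ S.diag (fun i => ?_) ht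
  exact CoordNode.FNode.of_coord (C.coord _ (isRoot_sr _ _ i)) h2 (hstd _ (isRoot_sr _ _ i)) hσ

include hp in
theorem moves_chev [Finite K] (p : ℕ) [Fact p.Prime] [CharP K p] (hp2 : p ≠ 2) [Nonempty (Fin l)]
    [IsSimpleGroup ↥(D.group K)] (hc : ∃ a b : ↥(D.group K), a * b ≠ b * a) (Rw : H967.CopRow.Row (D.group K)) :
    Moves ↥(D.group K) := by
  intro α _ hα h5 _ _ t ht
  obtain ⟨e, σ, he, ho⟩ := Rw.exists_equiv_one (MulEquiv.refl _) α hα
  refine moved_of_equiv e (β := fld D σ) (fun x => ?_) (moved_fld hp p hp2 hc σ (by rw [ho]; exact h5)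
    (by rw [← map_mul, ht, map_one]))
  rw [he]
  rfl

end Cfsg.Agent.H277.ExcChev
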