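import Mathlib
import Cfsg.Agent.H277.Cls
import Cfsg.Agent.H277.ExcChev
import Cfsg.Agent.Schreier.ClassPSL
import Cfsg.Agent.ClassicalGeometry.PSL2Basic
import Cfsg.Agent.S0243
import Cfsg.Agent.S0813
import Cfsg.Agent.S2698

/-!
# The groups `PSL_n(q)`, `q` odd
-/

set_option autoImplicit false

open scoped Matrix

namespace Cfsg.Agent.H277.ClsPsl

open Cfsg Cfsg.Agent.H277.Big Cfsg.Agent.H277.Cls Cfsg.Agent.H277.ExcChev Matrix
open Cfsg.Agent.ClassicalGeometry.AutPSL.Root Cfsg.Agent.ClassicalGeometry.AutPSL.Auto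
  Cfsg.Agent.ClassicalGeometry.AutPSL.Main
open Cfsg.Agent.H199.PslAut

theorem prod_gl {q : ℕ} (n : ℕ) :
    ∏ i : Fin n, (q ^ n - q ^ (i : ℕ)) = q ^ (n * (n - 1) / 2) * ∏ i ∈ Finset.range n, (q ^ (i + 1) - 1) := by
  rw [Fin.prod_univ_eq_prod_range (fun i => q ^ n - q ^ i) n]
  have h1 : ∀ i ∈ Finset.range n, q ^ n - q ^ i = q ^ i * (q ^ (n - i) - 1) := by
    intro i hi
    rw [Finset.mem_range] at hi
    rw [Nat.mul_sub, ← pow_add, Nat.add_sub_cancel' hi.le, mul_one]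
  rw [Finset.prod_congr rfl h1, Finset.prod_mul_distrib, Finset.prod_pow_eq_pow_sum, ← Finset.sum_range_id_mul_two]
  congr 1
  · rw [Nat.mul_div_cancel _ (by norm_num)]
  · rw [← Finset.prod_range_reflect]
    refine Finset.prod_congr rfl fun i hi => ?_
    rw [Finset.mem_range] at hi
    congr 2
    omega

theorem card_psl {F : Type*} [Field F] [Fintype F] {q : ℕ} (hF : Fintype.card F = q) {n : ℕ} (hn : 2 ≤ n) :
    Nat.gcd n (q - 1) * Nat.card (ProjectiveSpecialLinearGroup (Fin n) F) =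
      q ^ (n * (n - 1) / 2) * ∏ i ∈ Finset.range (n - 1), (q ^ (i + 2) - 1) := by
  have h := S0243.result hF n hn
  have hq : 2 ≤ q := hF ▸ Fintype.one_lt_card
  obtain ⟨m, rfl⟩ := Nat.exists_eq_add_of_le' hn
  rw [prod_gl, Finset.prod_range_succ', zero_add, pow_one, mul_left_comm, ← mul_assoc (q ^ _),
    mul_comm _ (q - 1)] at h
  exact Nat.eq_of_mul_eq_mul_left (show 0 < q - 1 by omega) h

theorem card_pgl {F : Type*} [Field F] [Fintype F] {q : ℕ} (hF : Fintype.card F = q) {n : ℕ} (hn : 2 ≤ n) :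
    Nat.card (ProjGenLinGroup (Fin n) F) =
      Nat.gcd n (q - 1) * Nat.card (ProjectiveSpecialLinearGroup (Fin n) F) := by
  have h := S0243.result hF n hn
  have hq : 2 ≤ q := hF ▸ Fintype.one_lt_card
  have : Nonempty (Fin n) := ⟨⟨0, by omega⟩⟩
  have h1 := ClassicalGeometry.PSL2Basic.card_PGL_mul (Fin n) F
  rw [Matrix.card_GL_field, hF, ← h] at h1
  refine Nat.eq_of_mul_eq_mul_right (show 0 < q - 1 by omega) (h1.trans ?_)
  ring

/-- the crude bound -/
theorem card_pgl_le (F : Type*) [Field F] [Fintype F] {n : ℕ} (hn : 2 ≤ n) :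
    Nat.card (ProjGenLinGroup (Fin n) F) ≤ Fintype.card F ^ (n * n) := by
  have hq : 2 ≤ Fintype.card F := Fintype.one_lt_card
  have : Nonempty (Fin n) := ⟨⟨0, by omega⟩⟩
  have h1 := ClassicalGeometry.PSL2Basic.card_PGL_mul (Fin n) F
  have h2 : Nat.card (GL (Fin n) F) ≤ Nat.card (Matrix (Fin n) (Fin n) F) :=
    Nat.card_le_card_of_injective (fun g : GL (Fin n) F => (g : Matrix (Fin n) (Fin n) F)) Units.val_injective
  have h3 : Nat.card (Matrix (Fin n) (Fin n) F) = Fintype.card F ^ (n * n) := by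
    show Nat.card (Fin n → Fin n → F) = _
    rw [Nat.card_fun, Nat.card_fun, Nat.card_eq_fintype_card, Nat.card_eq_fintype_card, Fintype.card_fin, ← pow_mul]
  have h4 : Nat.card (ProjGenLinGroup (Fin n) F) ≤ Nat.card (ProjGenLinGroup (Fin n) F) * (Fintype.card F - 1) :=
    Nat.le_mul_of_pos_right _ (by omega)
  omega

/-- prime divisors of `gcd(n, q - 1)` -/
theorem dvd_of_dvd_gcd {F : Type*} [Field F] [Fintype F] {q : ℕ} (hF : Fintype.card F = q) {n : ℕ} (hn : 3 ≤ n)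
    {s : ℕ} (hs : s.Prime) (h : s ∣ Nat.gcd n (q - 1)) : s ∣ Nat.card (ProjectiveSpecialLinearGroup (Fin n) F) := by
  have hq : 2 ≤ q := hF ▸ Fintype.one_lt_card
  by_contra hcon
  have h1 := card_psl hF (show 2 ≤ n by omega)
  obtain ⟨m, rfl⟩ := Nat.exists_eq_add_of_le' hn
  have h2 : (q - 1) * (q - 1) ∣ Nat.gcd (m + 3) (q - 1) * Nat.card (ProjectiveSpecialLinearGroup (Fin (m + 3)) F) := by
    rw [h1, show m + 3 - 1 = m + 1 + 1 by omega, Finset.prod_range_succ', Finset.prod_range_succ']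
    have e1 : q - 1 ∣ q ^ (0 + 1 + 2) - 1 := Nat.sub_one_dvd_pow_sub_one _ _
    have e2 : q - 1 ∣ q ^ (0 + 2) - 1 := Nat.sub_one_dvd_pow_sub_one _ _
    exact ((mul_dvd_mul (e1.mul_left _) e2)).mul_left _
  exact absurd h2 (not_sq_dvd (by omega) (Nat.gcd_dvd_right _ _) Nat.card_pos.ne' hs (h.trans (Nat.gcd_dvd_right _ _)) hcon)

theorem moves_psl {F : Type} [Field F] [Fintype F] {p : ℕ} [CharP F p] (hp2 : p ≠ 2) {n : ℕ} (hn : 2 ≤ n)
    (h4 : n = 2 → 4 ≤ Fintype.card F) (hZ : Subgroup.center (ProjectiveSpecialLinearGroup (Fin n) F) = ⊥)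
    (h2K : 2 ∣ Nat.card (ProjectiveSpecialLinearGroup (Fin n) F)) :
    Moves (ProjectiveSpecialLinearGroup (Fin n) F) := by
  intro α hr hα h5 h2 h3 t ht
  have hpp : p.Prime := CharP.char_is_prime F p
  have : Fact p.Prime := ⟨hpp⟩
  have hfin : Finite (ProjectiveSpecialLinearGroup (Fin n) F) := Quotient.finite _
  obtain ⟨f, -, hF⟩ := FiniteField.card F p
  -- conjugate to a field automorphism
  have hcard : Nat.card (MulAut (ProjectiveSpecialLinearGroup (Fin n) F)) ∣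
      2 * Nat.gcd n (p ^ (f : ℕ) - 1) * f * Nat.card (ProjectiveSpecialLinearGroup (Fin n) F) := by
    rw [S0813.result p f f.pos hF n hn (fun h => hF ▸ h4 h), card_pgl hF hn]
    have h1 : (if n = 2 then 1 else 2) ∣ 2 := by split_ifs <;> simp
    rw [show 2 * Nat.gcd n (p ^ (f : ℕ) - 1) * f * Nat.card (ProjectiveSpecialLinearGroup (Fin n) F) =
      2 * f * (Nat.gcd n (p ^ (f : ℕ) - 1) * Nat.card (ProjectiveSpecialLinearGroup (Fin n) F)) by ring]
    exact mul_dvd_mul_right (mul_dvd_mul_right h1 _) _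
  obtain ⟨g, σ, hg, hσ, -, hrf⟩ := exists_field hZ (Schreier.ClassPSL.sch hn) hF (phi n F) (phi_injective hn) hcard
    (fun s hs hsd => by
      rcases (hs.dvd_mul).1 hsd with h | h
      · rwa [(Nat.prime_dvd_prime_iff_eq hs Nat.prime_two).1 h]
      · by_cases hn2 : n = 2
        · have h1 := h.trans (Nat.gcd_dvd_left _ _)
          rw [hn2] at h1
          rwa [(Nat.prime_dvd_prime_iff_eq hs Nat.prime_two).1 h1]
        · exact dvd_of_dvd_gcd hF (by omega) hs h) hr hα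
  have hcl : IsFieldAutClassPSL α := ⟨g, σ, hσ, (std_iff _ _).2 hg⟩
  obtain ⟨F₀, _, _, _, hF₀, hj, hq₀, hpow⟩ := exists_subfield (p := p) f.ne_zero hr hrf
  obtain ⟨-, hiso, -⟩ := S2698.result hF f.pos hn h4 α hcl hr rfl F₀ hF₀
  have hfr : 128 ≤ p ^ (f : ℕ) := by rw [← hpow]; exact big_le hpp hp2 rfl hj h5
  refine moved (p := p) (big_psl hn (by rw [Nat.card_eq_fintype_card, hF]; exact hfr)) (q₀ := p ^ ((f : ℕ) / orderOf α))
    (a := n * n) (b := n * (n - 1) / 2) (r := orderOf α) (k := f * (n * (n - 1) / 2)) hq₀ h5 ?_ ?_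
    (by rw [hpow, ← pow_mul]) (by rw [card_psl hF hn, pow_mul]) ?_ ht
  · obtain ⟨m, rfl⟩ := Nat.exists_eq_add_of_le' hn
    have h1 : (m + 2) * (m + 2 - 1) / 2 * 2 = (m + 2) * (m + 1) := by
      rw [show m + 2 - 1 = m + 1 by omega, mul_comm (m + 2)]
      exact Nat.div_mul_cancel (Nat.even_mul_succ_self (m + 1)).two_dvd
    nlinarith
  · intro h
    have h1 := h.trans (Nat.gcd_dvd_right _ _)
    have h2 : p ∣ p ^ (f : ℕ) := dvd_pow_self p f.ne_zero
    have h3 := (Nat.dvd_sub_iff_right (Nat.one_le_pow _ _ hpp.pos) h2).1 h1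
    exact hpp.one_lt.ne' (Nat.dvd_one.1 h3)
  · intro C hC
    refine (card_le hZ (H := inndiagPSL n F) (fun x => ?_) hiso hC).trans ?_
    · obtain ⟨s, rfl⟩ := pr_surjective x
      rw [← Psi_coe]
      exact Psi_mem _
    · rw [← hF₀]
      exact card_pgl_le F₀ hn

end Cfsg.Agent.H277.ClsPsl
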