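import Mathlib
import Cfsg.Agent.H277.Cls
import Cfsg.Agent.H277.ExcChev
import Cfsg.Agent.Schreier.ClassPOmega
import Cfsg.Agent.H185.SplitTwo
import Cfsg.Agent.H205.MinusMain
import Cfsg.Agent.S0292
import Cfsg.Agent.S0293
import Cfsg.Agent.S0816
import Cfsg.Agent.S0817
import Cfsg.Agent.S2714
import Cfsg.Agent.S2715

/-!
# The groups `Ω_{2m+1}(q)` and `PΩ⁺_{2m}(q)`, `q` odd
-/

set_option autoImplicit false

open scoped Matrix

namespace Cfsg.Agent.H277.ClsOrth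

open Cfsg Cfsg.Agent.H277.Big Cfsg.Agent.H277.Cls Cfsg.Agent.H277.ExcChev Matrix
open Cfsg.Agent.ClassicalGeometry.OrthSemi Cfsg.Agent.LieClassical.OrthCore Cfsg.Agent.LieClassical.OrthTrans
  Cfsg.Agent.LieClassical.OrthSimple Cfsg.Agent.LieClassical.OrthFinite
open Cfsg.Agent.H198.OrthFrame (Phi Sim simGam S Phi_eq_one_iff)
open Cfsg.Agent.H198.Carriers
open Cfsg.Agent.H185.OrthCent

section Gen

variable {ι : Type} [Fintype ι] [DecidableEq ι] {F : Type*} [Field F] {Q : QuadraticForm F (ι → F)}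

/-- The field automorphisms. -/
noncomputable def fldHom (hG : Good Q) (h : ∀ σ : F ≃+* F, Fix σ Q) : (F ≃+* F) →* MulAut (POmega F ⇑Q) :=
  (Phi hG).comp
    { toFun := fun σ => frobG (h σ)
      map_one' := Subtype.ext (Equiv.ext fun v => by rw [frobG_apply]; rfl)
      map_mul' := fun σ τ => Subtype.ext (Equiv.ext fun v => by
        rw [frobG_apply]
        show _ = (frobG (h σ)).1 ((frobG (h τ)).1 v)
        rw [frobG_apply, frobG_apply]
        rfl) }

theorem fldHom_apply (hG : Good Q) (h : ∀ σ : F ≃+* F, Fix σ Q) (σ : F ≃+* F) :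
    fldHom hG h σ = Phi hG (frobG (h σ)) := rfl

theorem fldHom_injective [Nonempty ι] (hG : Good Q) (h : ∀ σ : F ≃+* F, Fix σ Q) :
    Function.Injective (fldHom hG h) := by
  rw [injective_iff_map_eq_one]
  intro σ hσ
  have h1 := (Phi_frob_pow_eq_one hG (h σ) 1).1 (by rw [pow_one]; exact hσ)
  rwa [pow_one] at h1

end Gen

theorem prod_le (q m : ℕ) : ∏ i ∈ Finset.range m, (q ^ (2 * (i + 1)) - 1) ≤ q ^ (m * (m + 1)) := by
  induction m with
  | zero => simp
  | succ m ih =>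
    rw [Finset.prod_range_succ]
    calc _ ≤ q ^ (m * (m + 1)) * q ^ (2 * (m + 1)) := Nat.mul_le_mul ih (Nat.sub_le _ _)
      _ = q ^ ((m + 1) * (m + 1 + 1)) := by rw [← pow_add]; congr 1; ring

theorem two_ne_zero {F : Type*} [Field F] {p : ℕ} [CharP F p] (hp : p.Prime) (hp2 : p ≠ 2) : (2 : F) ≠ 0 := by
  intro h0
  have h1 : ((2 : ℕ) : F) = 0 := by exact_mod_cast h0
  rw [CharP.cast_eq_zero_iff F p] at h1
  exact hp2 ((Nat.prime_dvd_prime_iff_eq hp Nat.prime_two).1 h1)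

theorem le_pow {p f : ℕ} (hp : p.Prime) : f ≤ p ^ f := (Nat.lt_pow_self hp.one_lt).le

/-! ### Odd dimension -/

section Odd

theorem card_inndiag_odd_le {F : Type*} [Field F] [Fintype F] {p f : ℕ} [hp : Fact p.Prime] (hp2 : p ≠ 2) (hf : f ≠ 0)
    (hF : Fintype.card F = p ^ f) {m : ℕ} (hm : 3 ≤ m) :
    Nat.card (inndiagPOmegaOdd m F) ≤ (p ^ f) ^ (2 * m ^ 2 + m + 2) := by
  have hfin : Finite (POmega F (quadFormOdd m F)) := Quotient.finite _
  have ho : Odd p := hp.out.odd_of_ne_two hp2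
  have hq2 : 2 ≤ p ^ f := hp.out.two_le.trans (Nat.le_self_pow hf p)
  have h1 : Nat.card (inndiagPOmegaOdd m F) ≤ Nat.card (MulAut (POmega F (quadFormOdd m F))) :=
    Subgroup.card_le_card_group _
  refine h1.trans ?_
  rw [S0816.result p f (Nat.one_le_iff_ne_zero.2 hf) hF ho m hm]
  have h2 := S0292.result hF (ho.pow) m hm
  have h3 : Nat.card (POmega F (quadFormOdd m F)) ≤ (p ^ f) ^ (m ^ 2) * (p ^ f) ^ (m * (m + 1)) := by
    calc Nat.card (POmega F (quadFormOdd m F)) ≤ 2 * Nat.card (POmega F (quadFormOdd m F)) := by omega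
      _ = _ := h2
      _ ≤ _ := Nat.mul_le_mul_left _ (prod_le _ _)
  calc 2 * f * Nat.card (POmega F (quadFormOdd m F)) ≤ p ^ f * p ^ f * ((p ^ f) ^ (m ^ 2) * (p ^ f) ^ (m * (m + 1))) :=
        Nat.mul_le_mul (Nat.mul_le_mul hq2 (le_pow hp.out)) h3
    _ = _ := by ring

theorem moves_odd {F : Type} [Field F] [Fintype F] {p : ℕ} [CharP F p] (hp2 : p ≠ 2) {m : ℕ} (hm : 3 ≤ m)
    (hZ : Subgroup.center (POmega F (quadFormOdd m F)) = ⊥) (h2K : 2 ∣ Nat.card (POmega F (quadFormOdd m F))) :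
    Moves (POmega F (quadFormOdd m F)) := by
  intro α hr hα h5 _ _ t ht
  have hpp : p.Prime := CharP.char_is_prime F p
  have : Fact p.Prime := ⟨hpp⟩
  have hfin : Finite (POmega F (quadFormOdd m F)) := Quotient.finite _
  have h2 : (2 : F) ≠ 0 := two_ne_zero hpp hp2
  obtain ⟨f, -, hF⟩ := FiniteField.card F p
  have ho : Odd p := hpp.odd_of_ne_two hp2
  have hG := good_oddQ (F := F) (m := m) (by omega) h2
  have hfix : ∀ σ : F ≃+* F, Fix σ (oddQ m F) := fun σ => S2714.map_oddQ m (σ : F →+* F)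
  have hcard : Nat.card (MulAut (POmega F (quadFormOdd m F))) ∣ 2 * f * Nat.card (POmega F (quadFormOdd m F)) := by
    rw [S0816.result p f f.pos hF ho m hm]
  obtain ⟨g, σ, hg, hσ, -, hrf⟩ := exists_field hZ (Schreier.ClassPOmega.sch_odd hm h2) hF (fldHom hG hfix)
    (fldHom_injective hG hfix) hcard
    (fun s hs hsd => by rwa [(Nat.prime_dvd_prime_iff_eq hs Nat.prime_two).1 hsd]) hr hα
  have hcl : IsFieldAutClassPOmega (quadFormOdd m F) α :=
    ⟨g, fldHom hG hfix σ, σ, hσ, (isFieldAut_iff hG (hfix σ) _).2 rfl, hg⟩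
  obtain ⟨F₀, _, _, _, hF₀, hj, hq₀, hpow⟩ := exists_subfield (p := p) f.ne_zero hr hrf
  obtain ⟨-, hiso, -⟩ := S2714.result hF f.pos (by rw [hF]; exact ho.pow) hm α hcl hr rfl F₀ hF₀
  have hfr : 128 ≤ p ^ (f : ℕ) := by rw [← hpow]; exact big_le hpp hp2 rfl hj h5
  refine moved (p := p) (big_odd (by omega) ho (by rw [Nat.card_eq_fintype_card, hF]; exact hfr))
    (q₀ := p ^ ((f : ℕ) / orderOf α)) (a := 2 * m ^ 2 + m + 2) (b := m ^ 2) (r := orderOf α) (k := f * m ^ 2) (dd := 2)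
    hq₀ h5 ?_ ?_ (by rw [hpow, ← pow_mul]) (by rw [S0292.result hF ho.pow m hm, pow_mul]) ?_ ht
  · nlinarith
  · intro h
    exact hp2 ((Nat.prime_dvd_prime_iff_eq hpp Nat.prime_two).1 h)
  · intro C hC
    refine (card_le hZ (H := inndiagPOmegaOdd m F) (fun x => ?_) hiso hC).trans ?_
    · rw [inndiag_odd_eq hG]
      have h6 := Cfsg.Agent.H185.SplitOne.inn_le hG (C := ⊤) (fun x _ => Subgroup.mem_top _) ⟨x, rfl⟩
      rw [← MonoidHom.range_eq_map] at h6
      exact h6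
    · exact card_inndiag_odd_le hp2 hj hF₀ hm

end Odd

/-! ### Plus type -/

section Plus

theorem fix_plus {F : Type*} [Field F] (m : ℕ) (σ : F ≃+* F) : Fix σ (plusQ m F) := by
  intro v
  change quadFormPlus m F (fun i => σ (v i)) = σ (quadFormPlus m F v)
  unfold Cfsg.quadFormPlus
  simp only [map_sum, map_mul]

theorem card_inndiag_plus_le {F : Type*} [Field F] [Fintype F] {p f : ℕ} [hp : Fact p.Prime] (hp2 : p ≠ 2) (hf : f ≠ 0)
    (hF : Fintype.card F = p ^ f) {m : ℕ} (hm : 4 ≤ m) :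
    Nat.card (inndiagPOmegaPlus m F) ≤ (p ^ f) ^ (2 * (m * (m - 1)) + m + 4) := by
  have hfin : Finite (POmega F (quadFormPlus m F)) := Quotient.finite _
  have hp3 : 3 ≤ p := by have := hp.out.two_le; omega
  have hq3 : 3 ≤ p ^ f := hp3.trans (Nat.le_self_pow hf p)
  have h1 : Nat.card (inndiagPOmegaPlus m F) ≤ Nat.card (MulAut (POmega F (quadFormPlus m F))) :=
    Subgroup.card_le_card_group _
  refine h1.trans ?_
  rw [S0817.result p f (Nat.one_le_iff_ne_zero.2 hf) hF m hm, if_neg hp2]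
  have h2 := S0293.result hF m hm
  have hpos : 0 < (p ^ f) ^ m - 1 := by
    have : 3 ≤ (p ^ f) ^ m := hq3.trans (Nat.le_self_pow (by omega) _)
    omega
  have h3 : Nat.card (POmega F (quadFormPlus m F)) ≤ (p ^ f) ^ (m * (m - 1)) * (p ^ f) ^ m * (p ^ f) ^ (m * (m - 1)) := by
    calc Nat.card (POmega F (quadFormPlus m F)) ≤
        Nat.gcd 4 ((p ^ f) ^ m - 1) * Nat.card (POmega F (quadFormPlus m F)) :=
          Nat.le_mul_of_pos_left _ (Nat.gcd_pos_of_pos_left _ (by norm_num))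
      _ = _ := h2
      _ ≤ _ := by
        have h4 := prod_le (p ^ f) (m - 1)
        rw [show (m - 1) * (m - 1 + 1) = m * (m - 1) by rw [show m - 1 + 1 = m by omega, mul_comm]] at h4
        exact Nat.mul_le_mul (Nat.mul_le_mul_left _ (Nat.sub_le _ _)) h4
  have h5 : (if m = 4 then 3 else 1) * (if Even (m * (p ^ f - 1) / 2) then 8 else 4) ≤ (p ^ f) ^ 3 := by
    calc _ ≤ 3 * 8 := Nat.mul_le_mul (by split_ifs <;> norm_num) (by split_ifs <;> norm_num)
      _ ≤ 3 ^ 3 := by norm_num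
      _ ≤ _ := Nat.pow_le_pow_left hq3 _
  calc _ ≤ (p ^ f) ^ 3 * p ^ f * ((p ^ f) ^ (m * (m - 1)) * (p ^ f) ^ m * (p ^ f) ^ (m * (m - 1))) :=
        Nat.mul_le_mul (Nat.mul_le_mul h5 (le_pow hp.out)) h3
    _ = _ := by ring

theorem moves_plus {F : Type} [Field F] [Fintype F] {p : ℕ} [CharP F p] (hp2 : p ≠ 2) {m : ℕ} (hm : 4 ≤ m)
    (hZ : Subgroup.center (POmega F (quadFormPlus m F)) = ⊥) (h2K : 2 ∣ Nat.card (POmega F (quadFormPlus m F)))
    (h3K : 3 ∣ Nat.card (POmega F (quadFormPlus m F))) :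
    Moves (POmega F (quadFormPlus m F)) := by
  intro α hr hα h5 _ _ t ht
  have hpp : p.Prime := CharP.char_is_prime F p
  have : Fact p.Prime := ⟨hpp⟩
  have hfin : Finite (POmega F (quadFormPlus m F)) := Quotient.finite _
  have h2 : (2 : F) ≠ 0 := two_ne_zero hpp hp2
  obtain ⟨f, -, hF⟩ := FiniteField.card F p
  have ho : Odd p := hpp.odd_of_ne_two hp2
  have hG := good_plusQ (F := F) (m := m) (by omega)
  have hne : Nonempty (Fin m ⊕ Fin m) := ⟨Sum.inl ⟨0, by omega⟩⟩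
  have hcard : Nat.card (MulAut (POmega F (quadFormPlus m F))) ∣ 24 * f * Nat.card (POmega F (quadFormPlus m F)) := by
    rw [S0817.result p f f.pos hF m hm, if_neg hp2]
    refine mul_dvd_mul_right (mul_dvd_mul_right ?_ _) _
    exact mul_dvd_mul (show (if m = 4 then 3 else 1) ∣ 3 by split_ifs <;> simp)
      (show (if Even (m * (p ^ (f : ℕ) - 1) / 2) then 8 else 4) ∣ 8 by split_ifs <;> norm_num)
  obtain ⟨g, σ, hg, hσ, -, hrf⟩ := exists_field hZ (Schreier.ClassPOmega.sch_plus hm) hF (fldHom hG (fix_plus m))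
    (fldHom_injective hG (fix_plus m)) hcard
    (fun s hs hsd => by
      rcases (hs.dvd_mul).1 (show s ∣ 2 ^ 3 * 3 from hsd) with h | h
      · rwa [(Nat.prime_dvd_prime_iff_eq hs Nat.prime_two).1 (hs.dvd_of_dvd_pow h)]
      · rwa [(Nat.prime_dvd_prime_iff_eq hs Nat.prime_three).1 h]) hr hα
  have hcl : IsFieldAutClassPOmega (quadFormPlus m F) α :=
    ⟨g, fldHom hG (fix_plus m) σ, σ, hσ, (isFieldAut_iff hG (fix_plus m σ) _).2 rfl, hg⟩
  obtain ⟨F₀, _, _, _, hF₀, hj, hq₀, hpow⟩ := exists_subfield (p := p) f.ne_zero hr hrf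
  obtain ⟨-, hiso, -⟩ := S2715.result hF f.pos hm α hcl hr rfl F₀ hF₀
  have hfr : 128 ≤ p ^ (f : ℕ) := by rw [← hpow]; exact big_le hpp hp2 rfl hj h5
  refine moved (p := p) (big_plus ho (by omega) (by rw [Nat.card_eq_fintype_card, hF]; exact hfr))
    (q₀ := p ^ ((f : ℕ) / orderOf α)) (a := 2 * (m * (m - 1)) + m + 4) (b := m * (m - 1)) (r := orderOf α)
    (k := f * (m * (m - 1))) (dd := Nat.gcd 4 ((p ^ (f : ℕ)) ^ m - 1))
    hq₀ h5 ?_ ?_ (by rw [hpow, ← pow_mul]) (by rw [S0293.result hF m hm, pow_mul p (f : ℕ), mul_assoc]) ?_ ht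
  · obtain ⟨k, rfl⟩ := Nat.exists_eq_add_of_le' hm
    rw [show k + 4 - 1 = k + 3 by omega]
    nlinarith
  · intro h
    have h1 := h.trans (Nat.gcd_dvd_left _ _)
    exact hp2 ((Nat.prime_dvd_prime_iff_eq hpp Nat.prime_two).1 (hpp.dvd_of_dvd_pow (show p ∣ 2 ^ 2 from h1)))
  · intro C hC
    refine (card_le hZ (H := inndiagPOmegaPlus m F) (fun x => ?_) hiso hC).trans ?_
    · rw [H205.PlusMain.inndiag_eq_pd hG h2]
      exact Cfsg.Agent.H185.SplitTwo.inn_le_pd hG h2 _ ⟨x, rfl⟩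
    · exact card_inndiag_plus_le hp2 hj hF₀ hm

end Plus

end Cfsg.Agent.H277.ClsOrth
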