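import Mathlib
import Cfsg.Agent.H277.ClsOrth
import Cfsg.Agent.H208.FieldMinus
import Cfsg.Agent.S0294
import Cfsg.Agent.S0818
import Cfsg.Agent.S2716
import Cfsg.Agent.S2728

/-!
# The groups `PΩ⁻_{2m}(q)`, `q` odd
-/

set_option autoImplicit false

open scoped Matrix

namespace Cfsg.Agent.H277.ClsMinus

open Cfsg Cfsg.Agent.H277.Big Cfsg.Agent.H277.Cls Cfsg.Agent.H277.ExcChev Cfsg.Agent.H277.ClsOrth Matrix
open Cfsg.Agent.ClassicalGeometry.OrthSemi Cfsg.Agent.LieClassical.OrthCore Cfsg.Agent.LieClassical.OrthTrans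
  Cfsg.Agent.LieClassical.OrthSimple Cfsg.Agent.LieClassical.OrthFinite Cfsg.Agent.LieClassical.QuadForms
open Cfsg.Agent.ClassicalGeometry.OrthAut1
open Cfsg.Agent.H198.OrthFrame (Phi Sim simGam S Phi_eq_one_iff)
open Cfsg.Agent.H198.Carriers
open Cfsg.Agent.H208.Frame Cfsg.Agent.H208.Dict
open Cfsg.Agent.H185.OrthCent

/-- Coprime automorphisms are not inner. -/
theorem not_inn {K : Type*} [Group K] [Finite K] {α : MulAut K} (hr : (orderOf α).Prime)
    (hα : (orderOf α).Coprime (Nat.card K)) (h : α ∈ Inn K) : False := by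
  obtain ⟨k, rfl⟩ := h
  have h1 : orderOf (MulAut.conj k) ∣ Nat.card K := (orderOf_map_dvd _ k).trans (orderOf_dvd_natCard k)
  have h2 := Nat.Coprime.eq_one_of_dvd hα h1
  rw [h2] at hr
  exact Nat.not_prime_one hr

/-- Coprime automorphisms of odd prime order have trivial image in a `2`-group. -/
theorem not_mem {K : Type*} [Group K] [Finite K] {α : MulAut K} (hr : (orderOf α).Prime)
    (h2 : ¬ 2 ∣ orderOf α) (hα : (orderOf α).Coprime (Nat.card K)) {H : Subgroup (MulAut K)} (hH : α ∈ H)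
    {D : Type*} [Group D] {k : ℕ} (hD : Nat.card D = 2 ^ k) (φ : H →* D) (hφ : φ.ker = (Inn K).subgroupOf H) : False := by
  apply not_inn hr hα
  have h3 : (⟨α, hH⟩ : H) ∈ φ.ker := by
    rw [MonoidHom.mem_ker]
    have h4 : orderOf (φ ⟨α, hH⟩) ∣ orderOf α := by
      have := orderOf_map_dvd φ ⟨α, hH⟩
      rwa [Subgroup.orderOf_mk] at this
    have h5 : orderOf (φ ⟨α, hH⟩) ∣ 2 ^ k := hD ▸ orderOf_dvd_natCard _
    have h6 : Nat.Coprime (orderOf α) (2 ^ k) :=
      Nat.Coprime.pow_right _ ((hr.coprime_iff_not_dvd).2 fun h =>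
        h2 ((Nat.prime_dvd_prime_iff_eq hr Nat.prime_two).1 h ▸ dvd_rfl))
    rw [← orderOf_eq_one_iff]
    exact Nat.eq_one_of_dvd_coprimes h6 h4 h5
  rw [hφ] at h3
  exact h3

theorem tr_Phi {F : Type*} [Field F] {ι : Type} [Fintype ι] [DecidableEq ι] {Q : QuadraticForm F (ι → F)} (hG : Good Q)
    (M : Gam Q) : AutOrth.Main.tr hG (Phi hG M) = Psi Q M := by
  ext z
  change AutOrth.Main.pe hG ((AutOrth.Main.pe hG).symm (Psi _ M (AutOrth.Main.pe hG ((AutOrth.Main.pe hG).symm z)))) = _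
  rw [MulEquiv.apply_symm_apply, MulEquiv.apply_symm_apply]

theorem card_inndiag_minus_le {F : Type*} [Field F] [Fintype F] {p f : ℕ} [hp : Fact p.Prime] (hp2 : p ≠ 2) (hf : f ≠ 0)
    (hF : Fintype.card F = p ^ f) {m : ℕ} (hm : 3 ≤ m) (a b : F)
    (hab : ∀ z₁ z₂ : F, z₁ ^ 2 + a * z₁ * z₂ + b * z₂ ^ 2 = 0 → z₁ = 0 ∧ z₂ = 0) :
    Nat.card (inndiagPOmegaMinus m F a b) ≤ (p ^ f) ^ (2 * ((m + 1) * m) + m + 5) := by
  have hfin : Finite (POmega F (quadFormMinus m F a b)) := Quotient.finite _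
  have hp3 : 3 ≤ p := by have := hp.out.two_le; omega
  have hq3 : 3 ≤ p ^ f := hp3.trans (Nat.le_self_pow hf p)
  have h1 : Nat.card (inndiagPOmegaMinus m F a b) ≤ Nat.card (MulAut (POmega F (quadFormMinus m F a b))) :=
    Subgroup.card_le_card_group _
  refine h1.trans ?_
  have h0 := S0818.result p f (Nat.one_le_iff_ne_zero.2 hf) hF (m + 1) (by omega) a b hab
  rw [if_neg hp2, Nat.add_sub_cancel] at h0
  rw [h0]
  have h2 := S0294.result hF (m + 1) (by omega) a b hab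
  rw [Nat.add_sub_cancel] at h2
  have h3 : Nat.card (POmega F (quadFormMinus m F a b)) ≤
      (p ^ f) ^ ((m + 1) * m) * (p ^ f) ^ (m + 2) * (p ^ f) ^ (m * (m + 1)) := by
    calc Nat.card (POmega F (quadFormMinus m F a b)) ≤
        Nat.gcd 4 ((p ^ f) ^ (m + 1) + 1) * Nat.card (POmega F (quadFormMinus m F a b)) :=
          Nat.le_mul_of_pos_left _ (Nat.gcd_pos_of_pos_left _ (by norm_num))
      _ = _ := h2
      _ ≤ _ := by
        refine Nat.mul_le_mul (Nat.mul_le_mul_left _ ?_) (prod_le _ _)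
        have h4 : 1 ≤ (p ^ f) ^ (m + 1) := Nat.one_le_pow _ _ (by omega)
        calc (p ^ f) ^ (m + 1) + 1 ≤ (p ^ f) ^ (m + 1) * 3 := by omega
          _ ≤ (p ^ f) ^ (m + 1) * p ^ f := Nat.mul_le_mul_left _ hq3
          _ = _ := (pow_succ _ _).symm
  have h5 : (if Even ((m + 1) * (p ^ f - 1) / 2) then 4 else 8) ≤ (p ^ f) ^ 2 := by
    calc _ ≤ 8 := by split_ifs <;> norm_num
      _ ≤ 3 ^ 2 := by norm_num
      _ ≤ _ := Nat.pow_le_pow_left hq3 _
  calc _ ≤ (p ^ f) ^ 2 * p ^ f * ((p ^ f) ^ ((m + 1) * m) * (p ^ f) ^ (m + 2) * (p ^ f) ^ (m * (m + 1))) :=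
        Nat.mul_le_mul (Nat.mul_le_mul h5 (le_pow hp.out)) h3
    _ = _ := by ring

theorem moves_minus {F : Type} [Field F] [Fintype F] {p : ℕ} [CharP F p] (hp2 : p ≠ 2) {m : ℕ} (hm : 3 ≤ m) (a b : F)
    (hab : ∀ z₁ z₂ : F, z₁ ^ 2 + a * z₁ * z₂ + b * z₂ ^ 2 = 0 → z₁ = 0 ∧ z₂ = 0)
    (hZ : Subgroup.center (POmega F (quadFormMinus m F a b)) = ⊥) :
    Moves (POmega F (quadFormMinus m F a b)) := by
  intro α hr hα h5 h2α _ t ht
  have hpp : p.Prime := CharP.char_is_prime F p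
  have : Fact p.Prime := ⟨hpp⟩
  have hfin : Finite (POmega F (quadFormMinus m F a b)) := Quotient.finite _
  have h2 : (2 : F) ≠ 0 := two_ne_zero hpp hp2
  obtain ⟨f, -, hF⟩ := FiniteField.card F p
  have ho : Odd p := hpp.odd_of_ne_two hp2
  have hG := good_minusQ (m := m) (F := F) (by omega) hab
  have hcl : IsFieldAutClassPOmegaMinus m α := by
    obtain ⟨M, hxM⟩ := surj_minusQ hm hab α
    have htr : AutOrth.Main.tr hG α = Psi (minusQ m F a b) M := by
      rw [← hxM]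
      exact tr_Phi hG M
    obtain ⟨τ, c, hM⟩ := M.2
    by_cases hτ : τ = 1
    · subst hτ
      exfalso
      obtain ⟨g, hg, -, hi⟩ := H208.Dict.mem_pgo hG hM htr
      have hmem : α ∈ pgoAut F (quadFormMinus m F a b) := Subgroup.subset_closure ⟨g, sim_of_pair hg, hi⟩
      obtain ⟨h6, h7⟩ := S2728.result (by rw [hF]; exact ho.pow) hm a b hab
      by_cases h8 : Even m ∧ Fintype.card F % 4 = 3
      · obtain ⟨φ, -, hφ⟩ := h6 h8
        exact not_mem (k := 3) hr h2α hα hmem (by rw [DihedralGroup.nat_card]; norm_num) φ hφ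
      · obtain ⟨φ, -, hφ⟩ := h7 h8
        exact not_mem (k := 2) hr h2α hα hmem (by rw [Nat.card_eq_fintype_card]; rfl) φ hφ
    · exact H208.FieldMinus.isFieldAutClassMinus hm hab htr hM hτ hr rfl
  have hrf : orderOf α ∣ f := by
    obtain ⟨a', b', ψ, σ, hab', -, ha', hb', hψ⟩ := hcl
    have hG' := good_minusQ (m := m) (F := F) (a := a') (b := b') (by omega) hab'
    have hfix : Fix σ (minusQ m F a' b') := by
      intro v
      rw [coe_minusQ]
      unfold Cfsg.quadFormMinus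
      simp only [map_add, map_sum, map_mul, map_pow, ha', hb']
    have hne : Nonempty ((Fin m ⊕ Fin m) ⊕ Fin 2) := ⟨Sum.inr 0⟩
    have h1 : (ψ.symm.trans α).trans ψ = Phi hG' (frobG hfix) := (isFieldAut_iff hG' hfix _).1 hψ
    have h2 : orderOf (Phi hG' (frobG hfix)) = orderOf σ := orderOf_Phi_frob hG' hfix
    have h3 : orderOf (MulAut.congr ψ α) = orderOf α :=
      orderOf_injective (MulAut.congr ψ).toMonoidHom (MulAut.congr ψ).injective α
    have h4 : MulAut.congr ψ α = (ψ.symm.trans α).trans ψ := rfl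
    have h5 : orderOf α = orderOf σ := h3.symm.trans ((congrArg orderOf (h4.trans h1)).trans h2)
    rw [h5, ← Lib.FieldAutCard.card_ringAut f.pos hF]
    exact orderOf_dvd_natCard σ
  obtain ⟨F₀, _, _, _, hF₀, hj, hq₀, hpow⟩ := exists_subfield (p := p) f.ne_zero hr hrf
  obtain ⟨-, -, ⟨a₀, b₀, hab₀, hiso⟩, -⟩ := S2716.result hF f.pos hm a b hab α hcl hr rfl F₀ hF₀
  have hfr : 128 ≤ p ^ (f : ℕ) := by rw [← hpow]; exact big_le hpp hp2 rfl hj h5
  have h9 := S0294.result hF (m + 1) (by omega) a b hab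
  rw [Nat.add_sub_cancel] at h9
  refine moved (p := p) (big_minus (by omega) ho a b hab (by rw [Nat.card_eq_fintype_card, hF]; exact hfr))
    (q₀ := p ^ ((f : ℕ) / orderOf α)) (a := 2 * ((m + 1) * m) + m + 5) (b := (m + 1) * m) (r := orderOf α)
    (k := f * ((m + 1) * m)) (dd := Nat.gcd 4 ((p ^ (f : ℕ)) ^ (m + 1) + 1))
    hq₀ h5 ?_ ?_ (by rw [hpow, ← pow_mul]) (by rw [h9, pow_mul p (f : ℕ), mul_assoc]) ?_ ht
  · obtain ⟨k, rfl⟩ := Nat.exists_eq_add_of_le' hm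
    nlinarith
  · intro h
    have h1 := h.trans (Nat.gcd_dvd_left _ _)
    exact hp2 ((Nat.prime_dvd_prime_iff_eq hpp Nat.prime_two).1 (hpp.dvd_of_dvd_pow (show p ∣ 2 ^ 2 from h1)))
  · intro C hC
    refine (card_le hZ (H := inndiagPOmegaMinus m F a b) (fun x => ?_) hiso hC).trans ?_
    · rw [H205.MinusMain.inndiag_eq_pd hab (by omega) hG h2]
      exact Cfsg.Agent.H185.SplitTwo.inn_le_pd hG h2 _ ⟨x, rfl⟩
    · exact card_inndiag_minus_le hp2 hj hF₀ hm a₀ b₀ hab₀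

end Cfsg.Agent.H277.ClsMinus
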