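import Mathlib
import Cfsg.Agent.H277.ExcChev
import Cfsg.Agent.CpAut.RgdTwD4
import Cfsg.Agent.CpAut.RgdTwE6
import Cfsg.Agent.H967.CopTw

/-!
# `³D₄(q)` and `²E₆(q)`, odd characteristic

A coprime automorphism moves an element of the centraliser of each involution.
-/

set_option autoImplicit false
set_option linter.unusedSectionVars false

namespace Cfsg.Agent.H277.ExcTw

open Cfsg.Agent.H967.CopMat

/-- The order of the restriction of `τ` to a large subfield. -/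
theorem order_restrict {K : Type*} [Field K] [Finite K] (τ : K ≃+* K) (E : Subfield K)
    (hE : Nat.card K ≤ Nat.card ↥E ^ 4) (τE : ↥E ≃+* ↥E) (hτE : ∀ a, (τE a : K) = τ a)
    (h2 : ¬ 2 ∣ orderOf τ) (h3 : ¬ 3 ∣ orderOf τ) (h5 : 5 ≤ orderOf τ) : 5 ≤ orderOf τE := by
  have hfin : Finite (K ≃+* K) := Finite.of_injective (fun f : K ≃+* K => (f : K → K)) DFunLike.coe_injective
  have hfinE : Finite (↥E ≃+* ↥E) := Finite.of_injective (fun f : ↥E ≃+* ↥E => (f : ↥E → ↥E)) DFunLike.coe_injective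
  set k := orderOf τE with hk
  have hk0 : 0 < k := orderOf_pos τE
  have hpow : ∀ (j : ℕ) (a : ↥E), ((τE ^ j) a : K) = (τ ^ j) a := by
    intro j
    induction j with
    | zero => intro a; rfl
    | succ j ih =>
      intro a
      rw [pow_succ, RingAut.mul_apply, ih, hτE, pow_succ, RingAut.mul_apply]
  have hle : E ≤ Fx (τ ^ k) := by
    intro a ha
    rw [mem_Fx]
    have h1 := hpow k ⟨a, ha⟩
    rw [hk, pow_orderOf_eq_one] at h1
    exact h1.symm
  have hc := card_Fx (τ ^ k)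
  have hcard : Nat.card ↥E ≤ Nat.card ↥(Fx (τ ^ k)) :=
    Nat.card_le_card_of_injective (Subfield.inclusion hle) (Subfield.inclusion hle).injective
  have h1E : 1 < Nat.card ↥E := Finite.one_lt_card
  have h4 : orderOf (τ ^ k) ≤ 4 := by
    by_contra hlt
    have h6 : Nat.card ↥E ^ 5 ≤ Nat.card K := by
      rw [hc]
      exact (Nat.pow_le_pow_left hcard 5).trans (Nat.pow_le_pow_right (by omega) (by omega))
    have h7 : Nat.card ↥E ^ 4 < Nat.card ↥E ^ 5 := Nat.pow_lt_pow_right h1E (by norm_num)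
    omega
  have hdvd : orderOf (τ ^ k) ∣ orderOf τ := orderOf_pow_dvd k
  have hpos : 0 < orderOf (τ ^ k) := orderOf_pos _
  have h1 : orderOf (τ ^ k) = 1 := by
    have h8 : orderOf (τ ^ k) ≠ 2 := fun e => h2 (by rw [← e]; exact hdvd)
    have h9 : orderOf (τ ^ k) ≠ 3 := fun e => h3 (by rw [← e]; exact hdvd)
    have h10 : orderOf (τ ^ k) ≠ 4 := fun e => h2 (by
      have : (4 : ℕ) ∣ orderOf τ := by rw [← e]; exact hdvd
      exact Dvd.dvd.trans (by norm_num) this)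
    omega
  have h11 : τ ^ k = 1 := orderOf_eq_one_iff.1 h1
  exact h5.trans (Nat.le_of_dvd hk0 (orderOf_dvd_of_pow_eq_one h11))

/-- The field fixed by the Frobenius map `φ`, of order at most `3`, is large. -/
theorem card_le_of_frob {K : Type*} [Field K] [Finite K] (φ : K →+* K) {m : ℕ} (hm0 : 0 < m) (hm : m ≤ 4)
    (hφ : ∀ x, φ^[m] x = x) (E : Subfield K) (hE : ∀ x, φ x = x → x ∈ E) : Nat.card K ≤ Nat.card ↥E ^ 4 := by
  let e : K ≃+* K := RingEquiv.ofBijective φ (Finite.injective_iff_bijective.1 φ.injective)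
  have he : ∀ x, e x = φ x := fun x => rfl
  have hpow : ∀ (j : ℕ) (x : K), (e ^ j) x = φ^[j] x := by
    intro j
    induction j with
    | zero => intro x; rfl
    | succ j ih => intro x; rw [pow_succ, RingAut.mul_apply, ih, he, Function.iterate_succ_apply]
  have hem : e ^ m = 1 := by
    ext x
    rw [hpow, hφ]
    rfl
  have ho : orderOf e ≤ 4 := (Nat.le_of_dvd hm0 (orderOf_dvd_of_pow_eq_one hem)).trans hm
  have hle : Fx e ≤ E := by
    intro x hx
    exact hE x hx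
  have hcard : Nat.card ↥(Fx e) ≤ Nat.card ↥E :=
    Nat.card_le_card_of_injective (Subfield.inclusion hle) (Subfield.inclusion hle).injective
  have h1 : 1 < Nat.card ↥(Fx e) := Finite.one_lt_card
  rw [card_Fx e]
  calc Nat.card ↥(Fx e) ^ orderOf e ≤ Nat.card ↥(Fx e) ^ 4 := Nat.pow_le_pow_right (by omega) ho
    _ ≤ _ := Nat.pow_le_pow_left hcard 4

section D4

open CoxeterSystem Cfsg.Agent.ChevalleyStructure.CoxeterGeom Cfsg.Agent.Tits.Roots Cfsg.Agent.Tits.Core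
  Cfsg.Agent.Nodes.Reps Cfsg.Agent.Nodes.BNOf
  Cfsg.Agent.Nodes.RGDTwGen Cfsg.Agent.Nodes.RGDChev
  Cfsg.Agent.Nodes.RGDFold Cfsg.Agent.Nodes.RGDFoldSL
open Cfsg.Agent.KFacts.RgdAut Cfsg.Agent.KFacts.RgdDiag Cfsg.Agent.KFacts.RgdRigid
  Cfsg.Agent.KFacts.RgdField Cfsg.Agent.KFacts.RgdTau Cfsg.Agent.KFacts.RgdNodes
open Cfsg.Lie Cfsg.Agent.ChevalleyStructure Cfsg.Agent.ChevStructure.FieldMap
open Cfsg.Agent.ChevalleyStructure.SL2Hom (up lo)
open Cfsg.Agent.KFacts.TwDFour.Out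
open Cfsg.Agent.Nodes.RGDTwD4 Cfsg.Agent.Nodes.RGDTwNode.D4
open Cfsg.Agent.CpAut.RgdTwD4 Cfsg.Agent.H277.ExcChev

variable {K : Type} [Field K] [Fintype K] {q : ℕ}

/-- **`³D₄(q)`.** -/
theorem moves_d4 (hq : IsPrimePow q) (hK : Fintype.card K = q ^ 3) (p : ℕ) [Fact p.Prime] [CharP K p] (hp2 : p ≠ 2)
    (hs : IsSimpleGroup ↥(twistedD4 K q)) (hc : ∃ a b : ↥(twistedD4 K q), a * b ≠ b * a) :
    Moves ↥(twistedD4 K q) := by
  intro α _ hα h5 h2 h3 t ht
  obtain ⟨φ, hφ⟩ := D4Fixed.exists_frob hq hK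
  obtain ⟨e, σ, he, ho⟩ := (H967.CopTw.row_d4 hq hK).exists_equiv_one (MulEquiv.refl _) α hα
  have h2K : (2 : K) ≠ 0 := by
    intro h0
    have h1 : ((2 : ℕ) : K) = 0 := by exact_mod_cast h0
    rw [CharP.cast_eq_zero_iff K p] at h1
    exact hp2 ((Nat.prime_dvd_prime_iff_eq Fact.out Nat.prime_two).1 h1)
  refine moved_of_equiv e (β := st q σ) (fun x => by rw [he]; rfl) ?_
  have ht' : e t * e t = 1 := by rw [← map_mul, ht, map_one]
  have hW : Finite CoxeterMatrix.G₂.Group :=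
    Cfsg.Agent.Nodes.RGDFold.finite_W (hp := hp) CoxeterMatrix.G₂.toCoxeterSystem isCartan foldData
  have hG1 := G1_eq_top CoxeterMatrix.G₂.toCoxeterSystem hK hφ
  have R := Cfsg.Agent.Nodes.RGDTwD4.rgd CoxeterMatrix.G₂.toCoxeterSystem hK hφ p
  have S := ntau_st hφ hK σ CoxeterMatrix.G₂.toCoxeterSystem p
  have hZ : Subgroup.center ↥(twistedD4 K q) = ⊥ := KFacts.RgdLieCharP.center_eq_bot hc
  refine CoordNode.moved_of_nodes R hG1 hZ S.diag (fun i => ?_) ht'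
  refine CoordNode.FNode.of_coord (coordD hφ hK i) (fun h0 => h2K (congrArg Subtype.val h0)) (st_up hφ hK σ i) ?_
  refine order_restrict σ (KD φ i) ?_ (rs hφ σ i) (fun a => rfl) (by rw [ho]; exact h2) (by rw [ho]; exact h3)
    (by rw [ho]; exact h5)
  refine card_le_of_frob φ (m := 3) (by norm_num) (by norm_num) (fun x => phi_three hφ hK x) _ fun x hx => ?_
  rw [Nodes.RGDFoldSL.mem_Fx]
  exact Function.iterate_fixed hx _

end D4

section E6

open CoxeterSystem Cfsg.Agent.ChevalleyStructure.CoxeterGeom Cfsg.Agent.Tits.Roots Cfsg.Agent.Tits.Core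
  Cfsg.Agent.Nodes.Reps Cfsg.Agent.Nodes.BNOf
  Cfsg.Agent.Nodes.RGDTwGen Cfsg.Agent.Nodes.RGDChev
  Cfsg.Agent.Nodes.RGDFold Cfsg.Agent.Nodes.RGDFoldSL
open Cfsg.Agent.KFacts.RgdAut Cfsg.Agent.KFacts.RgdDiag Cfsg.Agent.KFacts.RgdRigid
  Cfsg.Agent.KFacts.RgdField Cfsg.Agent.KFacts.RgdTau Cfsg.Agent.KFacts.RgdNodes
open Cfsg.Lie Cfsg.Agent.ChevalleyStructure Cfsg.Agent.ChevStructure.FieldMap
open Cfsg.Agent.ChevalleyStructure.SL2Hom (up lo)
open Cfsg.Agent.KFacts.TwESix.NodeCoord Cfsg.Agent.KFacts.TwESix.Out Cfsg.Agent.KFacts.TwESix.OutTwo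
open Cfsg.Agent.Nodes.RGDTwE6 Cfsg.Agent.Nodes.RGDTwNode.E6
open Cfsg.Agent.CpAut.RgdTwE6 Cfsg.Agent.H277.ExcChev

variable {K : Type} [Field K] [Fintype K] {q : ℕ}

/-- **`²E₆(q)`.** -/
theorem moves_2e6 (hq : IsPrimePow q) (hK : Fintype.card K = q ^ 2) (p : ℕ) [Fact p.Prime] [CharP K p] (hp2 : p ≠ 2)
    (hs : IsSimpleGroup ↥(twistedE6 K q)) (hc : ∃ a b : ↥(twistedE6 K q), a * b ≠ b * a)
    (hsch : Schreier.Basic.Sch ↥(twistedE6 K q)) : Moves ↥(twistedE6 K q) := by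
  intro α _ hα h5 h2 h3 t ht
  obtain ⟨φ, hφ, hqq⟩ := TwE6Basic.exists_frob hq hK
  obtain ⟨e, σ, he, ho⟩ := (H967.CopTw.row_2e6 hq hK hsch).exists_equiv_one (MulEquiv.refl _) α hα
  have h2K : (2 : K) ≠ 0 := by
    intro h0
    have h1 : ((2 : ℕ) : K) = 0 := by exact_mod_cast h0
    rw [CharP.cast_eq_zero_iff K p] at h1
    exact hp2 ((Nat.prime_dvd_prime_iff_eq Fact.out Nat.prime_two).1 h1)
  refine moved_of_equiv e (β := st q σ) (fun x => by rw [he]; rfl) ?_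
  have ht' : e t * e t = 1 := by rw [← map_mul, ht, map_one]
  have hW : Finite CoxeterMatrix.F₄.Group :=
    Cfsg.Agent.Nodes.RGDFold.finite_W (hp := hp) CoxeterMatrix.F₄.toCoxeterSystem isCartan foldData
  have hG1 := G1_eq_top CoxeterMatrix.F₄.toCoxeterSystem hφ hqq
  have R := Cfsg.Agent.Nodes.RGDTwE6.rgd CoxeterMatrix.F₄.toCoxeterSystem hφ hqq p
  have S := ntau_st hφ hqq σ CoxeterMatrix.F₄.toCoxeterSystem p
  have hZ : Subgroup.center ↥(twistedE6 K q) = ⊥ := KFacts.RgdLieCharP.center_eq_bot hc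
  refine CoordNode.moved_of_nodes R hG1 hZ S.diag (fun i => ?_) ht'
  refine CoordNode.FNode.of_coord (coordE hφ hqq i) (fun h0 => h2K (congrArg Subtype.val h0)) (st_up hφ hqq σ i) ?_
  refine order_restrict σ (KF φ i) ?_ (rs hφ σ i) (fun a => rfl) (by rw [ho]; exact h2) (by rw [ho]; exact h3)
    (by rw [ho]; exact h5)
  refine card_le_of_frob φ (m := 2) (by norm_num) (by norm_num) (fun x => ?_) _ fun x hx => ?_
  · show φ (φ x) = x
    rw [hφ, hφ, hqq]
  · rw [Nodes.RGDFoldSL.mem_Fx]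
    exact Function.iterate_fixed hx _

end E6

end Cfsg.Agent.H277.ExcTw
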