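import Mathlib
import Cfsg.Agent.H277.ExcChev
import Cfsg.Agent.H277.Cop
import Cfsg.Agent.H967.CopSz
import Cfsg.Agent.CpAutRee.Ree
import Cfsg.Agent.S0243
import Cfsg.Agent.S1069
import Cfsg.Agent.S1073
import Cfsg.Agent.S1101
import Cfsg.Agent.S1152
import Cfsg.Agent.S1157

/-!
# The small Ree groups

A coprime automorphism moves an element of the centraliser of each involution.
-/

set_option autoImplicit false
set_option linter.unusedSectionVars false

open scoped Pointwise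

namespace Cfsg.Agent.H277.Ree

open Cfsg.Lie Cfsg.Agent.H967.CopMat Cfsg.Agent.H277.ExcChev Cfsg.Agent.ChevStructure.FieldMap

variable {K : Type} [Field K] [Fintype K] {m : ℕ}

/-- the elements of `U` -/
theorem word_map (σ : K ≃+* K) (e : ℕ) (t u v : K) :
    (chevG2.wordMat K (reeWordU e t u v)).map σ = chevG2.wordMat K (reeWordU e (σ t) (σ u) (σ v)) := by
  have h1 := wordMat_map chevG2 (σ : K →+* K) (reeWordU e t u v)
  have h2 : (reeWordU e t u v).map (fun p => (p.1, (σ : K →+* K) p.2)) = reeWordU e (σ t) (σ u) (σ v) := by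
    simp [reeWordU]
  rw [h2] at h1
  exact h1

/-- **The parameters of `U` are unique.** -/
theorem word_injective (hK : Fintype.card K = 3 ^ (2 * m + 1)) :
    Function.Injective (fun p : K × K × K => chevG2.wordMat K (reeWordU (3 ^ m) p.1 p.2.1 p.2.2)) := by
  obtain ⟨h1, h2⟩ := S1101.result hK
  -- the elements of `U` as matrices
  let U := chevG2.posUnipotent K ⊓ twistedG2 K (3 ^ m)
  choose f hf using fun g : ↥U => (h1 g).1 g.2
  choose f2 hf2 using hf
  choose f3 hf3 using hf2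
  let F : ↥U → K × K × K := fun g => (f g, f2 g, f3 g)
  have hF : Function.Injective F := by
    intro a b e
    apply Subtype.ext
    apply Units.ext
    rw [hf3 a, hf3 b]
    have e1 : f a = f b := congrArg Prod.fst e
    have e2 : f2 a = f2 b := congrArg (fun p => p.2.1) e
    have e3 : f3 a = f3 b := congrArg (fun p => p.2.2) e
    rw [e1, e2, e3]
  have hcard : Nat.card (K × K × K) = Nat.card ↥U := by
    rw [h2, Nat.card_prod, Nat.card_prod, Nat.card_eq_fintype_card, hK]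
    ring
  have hbij : Function.Bijective F := (Nat.bijective_iff_injective_and_card F).2 ⟨hF, hcard.symm⟩
  intro p q e
  obtain ⟨a, rfl⟩ := hbij.2 p
  obtain ⟨b, rfl⟩ := hbij.2 q
  have e1 : a = b := by
    apply Subtype.ext
    apply Units.ext
    rw [hf3 a, hf3 b]
    exact e
  rw [e1]

/-- the order of `L₂(q)` -/
theorem dvd_card_psl (hK : Fintype.card K = 3 ^ (2 * m + 1)) :
    3 ^ (2 * m + 1) ∣ Nat.card (Matrix.ProjectiveSpecialLinearGroup (Fin 2) K) := by
  have h := S0243.result hK 2 le_rfl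
  set q := 3 ^ (2 * m + 1) with hq
  have hq1 : 1 ≤ q := Nat.one_le_pow _ _ (by norm_num)
  have hcop : q.Coprime (q - 1) := by
    rw [Nat.coprime_self_sub_right hq1]
    exact Nat.coprime_one_right q
  have h2 : q ∣ Nat.gcd 2 (q - 1) * ((q - 1) * Nat.card (Matrix.ProjectiveSpecialLinearGroup (Fin 2) K)) := by
    rw [h, Fin.prod_univ_two]
    refine Dvd.dvd.mul_left ?_ _
    exact Nat.dvd_sub (dvd_pow_self q (by norm_num)) (by simp)
  have h3 : q.Coprime (Nat.gcd 2 (q - 1)) := hcop.coprime_dvd_right (Nat.gcd_dvd_right _ _)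
  exact hcop.dvd_of_dvd_mul_left (h3.dvd_of_dvd_mul_left h2)

/-- the centraliser of an involution contains a subgroup of order `q` -/
theorem exists_subgroup (hm : 1 ≤ m) (hK : Fintype.card K = 3 ^ (2 * m + 1)) {t : ↥(twistedG2 K (3 ^ m))}
    (ht : t * t = 1) (ht1 : t ≠ 1) :
    ∃ Q : Subgroup ↥(twistedG2 K (3 ^ m)), Nat.card Q = 3 ^ (2 * m + 1) ∧ Q ≤ Subgroup.centralizer {t} := by
  classical
  have h2 : Fact (Nat.Prime 2) := ⟨Nat.prime_two⟩
  have h3 : Fact (Nat.Prime 3) := ⟨Nat.prime_three⟩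
  obtain ⟨hsimp, hc⟩ := Cfsg.Agent.S1073.result hm hK
  have hna : ∃ a b : ↥(Cfsg.Lie.twistedG2 K (3 ^ m)), a * b ≠ b * a := by
    by_contra hcon
    push Not at hcon
    exact hc ⟨⟨hcon⟩⟩
  obtain ⟨a, haH, ha1, ha2⟩ := Cfsg.Agent.S1157.exists_involution hK
  obtain ⟨⟨e⟩, hS⟩ := Cfsg.Agent.S1152.result hK a haH ha1 ha2
  have hao : orderOf a = 2 := orderOf_eq_prime (by rw [sq, ha2]) ha1
  have hto : orderOf t = 2 := orderOf_eq_prime (by rw [sq, ht]) ht1
  obtain ⟨g, rfl⟩ := CpAutRee.Ree.exists_conj hna hS hao hto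
  obtain ⟨f⟩ := CpAutRee.Ree.cent_conj a g
  have hcard : Nat.card ↥(Subgroup.centralizer ({g * a * g⁻¹} : Set ↥(twistedG2 K (3 ^ m)))) =
      2 * Nat.card (Matrix.ProjectiveSpecialLinearGroup (Fin 2) K) := by
    rw [Nat.card_congr (f.symm.trans e).toEquiv, Nat.card_prod, Nat.card_eq_fintype_card]
    rfl
  obtain ⟨Q0, hQ0⟩ := Sylow.exists_subgroup_card_pow_prime 3
    (show 3 ^ (2 * m + 1) ∣ Nat.card ↥(Subgroup.centralizer ({g * a * g⁻¹} : Set ↥(twistedG2 K (3 ^ m)))) by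
      rw [hcard]; exact (dvd_card_psl hK).mul_left 2)
  refine ⟨Q0.map (Subgroup.subtype _), ?_, ?_⟩
  · rw [← hQ0]
    exact (Nat.card_congr (Q0.equivMapOfInjective _ (Subgroup.subtype_injective _)).toEquiv).symm
  · rintro _ ⟨x, -, rfl⟩
    exact x.2

/-- the Sylow subgroup `U` -/
theorem exists_U (hK : Fintype.card K = 3 ^ (2 * m + 1)) :
    ∃ P : Sylow 3 ↥(twistedG2 K (3 ^ m)), ∀ g : ↥(twistedG2 K (3 ^ m)), g ∈ P ↔
      ∃ t u v : K, ((g : GL chevG2.Idx K) : Matrix chevG2.Idx chevG2.Idx K) = chevG2.wordMat K (reeWordU (3 ^ m) t u v) := by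
  classical
  have h3 : Fact (Nat.Prime 3) := ⟨Nat.prime_three⟩
  obtain ⟨h1, h2⟩ := S1101.result hK
  let U : Subgroup ↥(twistedG2 K (3 ^ m)) := (chevG2.posUnipotent K ⊓ twistedG2 K (3 ^ m)).subgroupOf (twistedG2 K (3 ^ m))
  have hU : Nat.card U = (3 ^ (2 * m + 1)) ^ 3 := by
    rw [← h2]
    exact Nat.card_congr (Subgroup.subgroupOfEquivOfLe inf_le_right).toEquiv
  have hq : 3 ∣ 3 ^ (2 * m + 1) := dvd_pow_self 3 (by omega)
  have hfac : (Nat.card ↥(twistedG2 K (3 ^ m))).factorization 3 = (2 * m + 1) * 3 := by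
    rw [S1069.result hK]
    set q := 3 ^ (2 * m + 1) with hq'
    have hq1 : 3 ≤ q := Nat.le_of_dvd (by positivity) hq
    have hn1 : ¬ 3 ∣ (q - 1) * (q ^ 3 + 1) := by
      rw [Nat.Prime.dvd_mul Nat.prime_three]
      rintro (h | h)
      · have : 3 ∣ q - (q - 1) := Nat.dvd_sub hq h
        rw [Nat.sub_sub_self (by omega)] at this
        omega
      · have h4 : 3 ∣ q ^ 3 := hq.trans (dvd_pow_self q (by norm_num))
        have := (Nat.dvd_add_right h4).1 h
        omega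
    have hpos : (q - 1) * (q ^ 3 + 1) ≠ 0 := by
      have : q - 1 ≠ 0 := by omega
      positivity
    rw [mul_assoc, Nat.factorization_mul (by positivity) hpos, Finsupp.add_apply,
      Nat.factorization_eq_zero_of_not_dvd hn1, hq', ← pow_mul, Nat.prime_three.factorization_pow]
    simp
  refine ⟨Sylow.ofCard U (by rw [hfac, hU, ← pow_mul]), ?_⟩
  intro g
  have : g ∈ Sylow.ofCard U (by rw [hfac, hU, ← pow_mul]) ↔ g ∈ U := Iff.rfl
  rw [this, Subgroup.mem_subgroupOf]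
  exact h1 _

theorem main (hm : 1 ≤ m) (hK : Fintype.card K = 3 ^ (2 * m + 1)) (σ : K ≃+* K) {r : ℕ} (hr : r.Prime)
    (hσ : orderOf σ = r) (h5 : 5 ≤ r) (hcop : ¬ r ∣ Nat.card ↥(twistedG2 K (3 ^ m))) {t : ↥(twistedG2 K (3 ^ m))}
    (ht : t * t = 1) (ht1 : t ≠ 1) :
    ∃ c ∈ Subgroup.centralizer ({t} : Set ↥(twistedG2 K (3 ^ m))), fieldAut (H967.CopSz.stab_g2 (3 ^ m)) σ c ≠ c := by
  classical
  have : Fact (Nat.Prime 3) := ⟨Nat.prime_three⟩
  have : Fact r.Prime := ⟨hr⟩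
  by_contra hcon
  push Not at hcon
  set β := fieldAut (H967.CopSz.stab_g2 (K := K) (3 ^ m)) σ with hβ
  have hβr : β ^ r = 1 := by rw [hβ, ← map_pow, ← hσ, pow_orderOf_eq_one, map_one]
  obtain ⟨Q, hQ, hQc⟩ := exists_subgroup hm hK ht ht1
  have hfix : ∀ x ∈ Q, β x = x := fun x hx => hcon x (hQc hx)
  have hQβ : β • Q = Q := Cop.smul_of_mem fun x hx => by rw [hfix x hx]; exact hx
  obtain ⟨P, hP, hQP⟩ := Cop.exists_ge hβr hcop (p := 3) (IsPGroup.of_card hQ) hQβ
  obtain ⟨U, hU⟩ := exists_U hK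
  have hUβ : β • U = U := by
    rw [Cop.smul_eq_iff]
    apply Cop.smul_of_mem
    intro x hx
    obtain ⟨a, b, c, h⟩ := (hU x).1 hx
    refine (hU _).2 ⟨σ a, σ b, σ c, ?_⟩
    rw [← word_map, ← h]
    rfl
  obtain ⟨g, hg, hgP⟩ := Cop.exists_conj hβr hcop hP hUβ
  -- the fixed points in `U`
  have hgQ : ∀ x ∈ Q, g * x * g⁻¹ ∈ U ∧ β (g * x * g⁻¹) = g * x * g⁻¹ := by
    intro x hx
    refine ⟨?_, by rw [map_mul, map_mul, map_inv, hg, hfix x hx]⟩
    rw [← hgP]
    exact Subgroup.smul_mem_pointwise_smul x (MulAut.conj g) _ (hQP hx)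
  choose! a b c habc using fun x (hx : x ∈ Q) => (hU _).1 (hgQ x hx).1
  have hpar : ∀ x (hx : x ∈ Q), σ (a x) = a x ∧ σ (b x) = b x ∧ σ (c x) = c x := by
    intro x hx
    have h1 := (hgQ x hx).2
    have h2 : chevG2.wordMat K (reeWordU (3 ^ m) (σ (a x)) (σ (b x)) (σ (c x))) =
        chevG2.wordMat K (reeWordU (3 ^ m) (a x) (b x) (c x)) := by
      rw [← word_map, ← habc x hx]
      exact congrArg (fun y : ↥(twistedG2 K (3 ^ m)) => ((y : GL chevG2.Idx K) : Matrix chevG2.Idx chevG2.Idx K)) h1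
    have h3 := word_injective hK (a₁ := (σ (a x), σ (b x), σ (c x))) (a₂ := (a x, b x, c x)) h2
    exact ⟨congrArg Prod.fst h3, congrArg (fun p => p.2.1) h3, congrArg (fun p => p.2.2) h3⟩
  have hinj : Function.Injective (fun x : Q => ((⟨a x, (hpar x x.2).1⟩, ⟨b x, (hpar x x.2).2.1⟩, ⟨c x, (hpar x x.2).2.2⟩) :
      ↥(Fx σ) × ↥(Fx σ) × ↥(Fx σ))) := by
    intro x y hxy
    have h1 : a x = a y := congrArg (fun p => (p.1 : K)) hxy
    have h2 : b x = b y := congrArg (fun p => (p.2.1 : K)) hxy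
    have h3 : c x = c y := congrArg (fun p => (p.2.2 : K)) hxy
    have h4 : (g * x * g⁻¹ : ↥(twistedG2 K (3 ^ m))) = g * y * g⁻¹ := by
      apply Subtype.ext
      apply Units.ext
      rw [habc x x.2, habc y y.2, h1, h2, h3]
    exact Subtype.ext (mul_left_cancel (mul_right_cancel h4))
  have hle := Nat.card_le_card_of_injective _ hinj
  rw [hQ, Nat.card_prod, Nat.card_prod] at hle
  have hf := card_Fx σ
  rw [Nat.card_eq_fintype_card, hK, hσ] at hf
  set f := Nat.card ↥(Fx σ) with hf'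
  have hf2 : 2 ≤ f := Finite.one_lt_card
  have h6 : f ^ 5 ≤ f ^ r := Nat.pow_le_pow_right (by omega) h5
  have h7 : f ^ 3 < f ^ 5 := Nat.pow_lt_pow_right (by omega) (by norm_num)
  have h8 : f * (f * f) = f ^ 3 := by ring
  omega

/-- **The small Ree groups.** -/
theorem moves_ree (hm : 1 ≤ m) (hK : Fintype.card K = 3 ^ (2 * m + 1)) : Moves ↥(twistedG2 K (3 ^ m)) := by
  intro α hr hα h5 h2 h3 t ht
  by_cases ht1 : t = 1
  · subst ht1
    by_contra hcon
    push Not at hcon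
    have h1 : α = 1 := by
      ext1 x
      exact hcon x (Subgroup.mem_centralizer_singleton_iff.2 (by rw [mul_one, one_mul]))
    rw [h1, orderOf_one] at h5
    omega
  · obtain ⟨e, σ, he, ho⟩ := (H967.CopSz.row_ree hm hK).exists_equiv_one (MulEquiv.refl _) α hα
    refine moved_of_equiv e he ?_
    refine main hm hK σ hr ho h5 ?_ (by rw [← map_mul, ht, map_one]) (fun h => ht1 (e.injective (by rw [h, map_one])))
    intro h
    exact hr.one_lt.ne' (Nat.Coprime.eq_one_of_dvd hα h)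

end Cfsg.Agent.H277.Ree
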