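import Mathlib
import Cfsg.Prelude.Def_LieTypeChar
import Cfsg.Agent.H277.ExcChev
import Cfsg.Agent.H277.ExcTw
import Cfsg.Agent.H277.Ree
import Cfsg.Agent.H277.ClsPsl
import Cfsg.Agent.H277.ClsPsp
import Cfsg.Agent.H277.ClsPsu
import Cfsg.Agent.H277.ClsOrth
import Cfsg.Agent.H277.ClsMinus
import Cfsg.Agent.H967.CopChev
import Cfsg.Agent.H967.CopTw
import Cfsg.Agent.Schreier.TwESix
import Cfsg.Agent.FixBN.LOAll

/-!
# Groups of Lie type in odd characteristic: coprime automorphisms move elements of involution centralisers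

* `moves_lie` : a simple group of Lie type of odd characteristic and of order divisible by `6` satisfies `Moves`.
-/

set_option autoImplicit false

namespace Cfsg.Agent.H277.MovesLie

open Cfsg Cfsg.Agent.H277.ExcChev Cfsg.Agent.ChevalleyStructure.CoxeterGeomTypes Cfsg.Agent.Nodes.RGDChev

theorem transport {G : Type*} [Group G] [Finite G] [IsSimpleGroup G] (hc : ∃ a b : G, a * b ≠ b * a)
    (h2 : 2 ∣ Nat.card G) (h3 : 3 ∣ Nat.card G) {K : Type} [Group K] (e : G ≃* K)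
    (h : IsSimpleGroup K → (∃ a b : K, a * b ≠ b * a) → Subgroup.center K = ⊥ → 2 ∣ Nat.card K → 3 ∣ Nat.card K →
      Moves K) : Moves G := by
  have hK : IsSimpleGroup K := e.symm.isSimpleGroup
  obtain ⟨a, b, hab⟩ := hc
  have hcK : ∃ a b : K, a * b ≠ b * a := by
    refine ⟨e a, e b, fun h1 => hab ?_⟩
    apply e.injective
    rw [map_mul, map_mul]
    exact h1
  have hcard : Nat.card G = Nat.card K := Nat.card_congr e.toEquiv
  exact Moves.congr e (h hK hcK (KFacts.RgdLieCharP.center_eq_bot hcK) (hcard ▸ h2) (hcard ▸ h3))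

/-- **Simple groups of Lie type of odd characteristic.** -/
theorem moves_lie {p : ℕ} (hp2 : p ≠ 2) {G : Type*} [Group G] [Finite G] [IsSimpleGroup G]
    (hc : ∃ a b : G, a * b ≠ b * a) (h2 : 2 ∣ Nat.card G) (h3 : 3 ∣ Nat.card G) (hG : IsLieTypeChar p G) :
    Moves G := by
  rcases hG with hG | hG | hG | hG | hG | hG | hG | hG | hG | hG | hG
  · obtain ⟨F, _, _, _, n, hn, h4, ⟨e⟩⟩ := hG
    exact transport hc h2 h3 e fun _ _ hZ h2K _ => ClsPsl.moves_psl hp2 hn h4 hZ h2K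
  · obtain ⟨F, _, _, _, m, hm, -, ⟨e⟩⟩ := hG
    exact transport hc h2 h3 e fun _ _ hZ h2K _ => ClsPsp.moves_psp hp2 hm hZ h2K
  · obtain ⟨F, _, _, _, n, q, hq, hn, h32, ⟨e⟩⟩ := hG
    exact transport hc h2 h3 e fun _ _ hZ h2K _ => ClsPsu.moves_psu hp2 hq hn h32 hZ h2K
  · obtain ⟨F, _, _, _, m, hm, -, ⟨e⟩⟩ := hG
    exact transport hc h2 h3 e fun _ _ hZ h2K _ => ClsOrth.moves_odd hp2 hm hZ h2K
  · obtain ⟨F, _, _, _, m, hm, ⟨e⟩⟩ := hG
    exact transport hc h2 h3 e fun _ _ hZ h2K h3K => ClsOrth.moves_plus hp2 hm hZ h2K h3K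
  · obtain ⟨F, _, _, _, m, a, b, hm, hab, ⟨e⟩⟩ := hG
    exact transport hc h2 h3 e fun _ _ hZ _ _ => ClsMinus.moves_minus hp2 (by omega) a b hab hZ
  · obtain ⟨F, _, _, _, ⟨hF3, ⟨e⟩⟩ | ⟨⟨e⟩⟩ | ⟨⟨e⟩⟩ | ⟨⟨e⟩⟩ | ⟨⟨e⟩⟩⟩ := hG
    · have : Fact p.Prime := ⟨CharP.char_is_prime F p⟩
      exact transport hc h2 h3 e fun _ hcK _ _ _ =>
        moves_chev (l := 2) (M := CoxeterMatrix.G₂) (by simp [IsType, typeList]) p hp2 hcK (H967.CopChev.row_g2 hF3)
    · have : Fact p.Prime := ⟨CharP.char_is_prime F p⟩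
      exact transport hc h2 h3 e fun _ hcK _ _ _ =>
        moves_chev (l := 4) (M := CoxeterMatrix.F₄) (by simp [IsType, typeList]) p hp2 hcK H967.CopChev.row_f4
    · have : Fact p.Prime := ⟨CharP.char_is_prime F p⟩
      exact transport hc h2 h3 e fun _ hcK _ _ _ =>
        moves_chev (l := 6) (M := CoxeterMatrix.E₆) (by simp [IsType, typeList]) p hp2 hcK H967.CopChev.row_e6
    · have : Fact p.Prime := ⟨CharP.char_is_prime F p⟩
      exact transport hc h2 h3 e fun _ hcK _ _ _ =>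
        moves_chev (l := 7) (M := CoxeterMatrix.E₇) (by simp [IsType, typeList]) p hp2 hcK H967.CopChev.row_e7
    · have : Fact p.Prime := ⟨CharP.char_is_prime F p⟩
      exact transport hc h2 h3 e fun _ hcK _ _ _ =>
        moves_chev (l := 8) (M := CoxeterMatrix.E₈) (by simp [IsType, typeList]) p hp2 hcK H967.CopChev.row_e8
  · obtain ⟨K, _, _, _, q, hq, ⟨hK, ⟨e⟩⟩ | ⟨hK, ⟨e⟩⟩⟩ := hG
    · have : Fact p.Prime := ⟨CharP.char_is_prime K p⟩
      exact transport hc h2 h3 e fun hs hcK _ _ _ => ExcTw.moves_2e6 hq hK p hp2 hs hcK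
        (Cfsg.Agent.Schreier.TwESix.sch_of_iso2E6 (G := ↥(Lie.twistedE6 K q))
          ⟨K, inferInstance, inferInstance, q, hq, hK, ⟨MulEquiv.refl _⟩⟩)
    · have : Fact p.Prime := ⟨CharP.char_is_prime K p⟩
      exact transport hc h2 h3 e fun hs hcK _ _ _ => ExcTw.moves_d4 hq hK p hp2 hs hcK
  · exact absurd hG.1 hp2
  · exact absurd hG.1 hp2
  · obtain ⟨-, K, _, _, m, hm, hK, ⟨e⟩⟩ := hG
    exact transport hc h2 h3 e fun _ _ _ _ _ => Ree.moves_ree hm hK

end Cfsg.Agent.H277.MovesLie
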