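import Cfsg.Agent.H388.EvenFix
import Cfsg.Agent.H277.Cop

/-!
# The defining characteristic two

`K` simple with a split (B, N)-pair of characteristic `p`, `α` an automorphism of prime order `r` not dividing `|K|`,
trivial on the centraliser of a nontrivial `p`-element: then `α = 1`.
-/

set_option autoImplicit false

open scoped Pointwise

namespace Cfsg.Agent.H277.Two

open Cfsg.Agent.Tits.Core Cfsg.Agent.Tits.Core.Bldg Cfsg.Agent.Tits Cfsg.Agent.Tits.Opp
open Cfsg.Agent.FixBN (Sys HasSplit Split)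
open Cfsg.Agent.FixOdd Cfsg.Agent.H388.EvenFix

variable {I : Type*} {M : CoxeterMatrix I} {W : Type*} [Group W] {cs : CoxeterSystem M W} {C : Type*}
variable {Δ : Bldg cs C} {G : Type*} [Group G] [MulAction G C] {p r : ℕ} {t : Tw Δ G}

/-- all the chambers are fixed -/
theorem θ_eq (S : Sys Δ G p) [F : OppRes.Cox cs] [Finite W] [Finite I] [Nonempty I] [Finite G] [Finite C]
    [hC : Nonempty C] [hr : Fact r.Prime] (ho : t.Ord r) (hcop : ¬ r ∣ Nat.card G) (hth : Δ.Thick)
    (htr : ∀ x y : C, ∃ g : G, g • x = y) (hU : ∀ x, t.θ x = x → ∀ u ∈ S.U x, t.τ u = u) (c : C) : t.θ c = c := by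
  classical
  -- the fixed chambers are closed under opposition
  have key : ∀ z, t.θ z = z → ∀ y, Δ.Opp z y → t.θ y = y := by
    intro z hz y hy
    have h1 := card_opp_fixed S ho hcop hz
    have h2 : 0 < Nat.card {y : C // t.θ y = y ∧ Δ.Opp z y} := by
      rw [h1]; exact Nat.card_pos
    obtain ⟨⟨y0, hy0, hzy0⟩⟩ := (Nat.card_pos_iff.1 h2).1
    obtain ⟨u, hu, rfl⟩ := S.trans z y0 y hzy0 hy
    rw [t.θ_smul, hy0, hU z hz u hu]
  -- a fixed chamber
  have hCcard : Nat.card C ∣ Nat.card G := by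
    obtain ⟨x0⟩ := hC
    have h1 : MulAction.orbit G x0 = Set.univ := by
      ext y
      simp only [Set.mem_univ, iff_true]
      obtain ⟨g, hg⟩ := htr x0 y
      exact ⟨g, hg⟩
    have h2 : Nat.card C = (MulAction.stabilizer G x0).index := by
      rw [MulAction.index_stabilizer, h1, Set.ncard_univ]
    rw [h2]
    exact Subgroup.index_dvd_card _
  obtain ⟨x0, hx0⟩ : ∃ x0, t.θ x0 = x0 := by
    refine Tw.exists_fixed (r := r) (fun x => t.θ x) ?_ (fun h => hcop (h.trans hCcard))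
    funext x
    change (⇑t.θ)^[r] x = x
    rw [Equiv.Perm.iterate_eq_pow, ho.θ]
    rfl
  obtain ⟨d, hd1, hd2⟩ := exists_opp_common Δ hth x0 c
  exact key d (key x0 hx0 d hd1) c (opp_symm Δ hd2)

/-- **Defining characteristic.** -/
theorem eq_one_of_hasSplit {K : Type*} [Group K] [Finite K] [IsSimpleGroup K] {p r : ℕ} [hp : Fact p.Prime]
    [hr : Fact r.Prime] (h : HasSplit p K) (hcop : ¬ r ∣ Nat.card K) {α : MulAut K} (hα : α ^ r = 1)
    {τ : K} (hτ : ∃ k, τ ^ p ^ k = 1) (hc : ∀ x ∈ Subgroup.centralizer ({τ} : Set K), α x = x) : α = 1 := by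
  obtain ⟨P, U, hne, h⟩ := h
  have hN : ((P.B ⊓ P.N).subgroupOf P.N).Normal := Cfsg.Agent.Tits.OfBN.normal_subgroupOf P
  obtain ⟨M, cs, hcs⟩ := Cfsg.Agent.S0320.result P
  obtain ⟨t, ht, hto⟩ := exists_tw h (Equiv.refl P.S) cs hcs α
  have hI : Finite P.S := FixBN.OfBN.finite_I (Equiv.refl P.S)
  have hIn : Nonempty P.S := hne.to_subtype
  have ho : t.Ord r := ⟨by rw [ht]; exact hα, hto r hα⟩
  have hth := Cfsg.Agent.Tits.OfBN.thick P (Equiv.refl P.S) cs hcs
  let S := FixBN.OfBN.sys (Equiv.refl P.S) cs hcs h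
  have hfix : ∀ c : K ⧸ P.B, t.θ c = c := by
    refine θ_eq S ho hcop hth (fun a b => ?_) ?_
    · induction a using QuotientGroup.induction_on with
      | _ a =>
      induction b using QuotientGroup.induction_on with
      | _ b =>
      exact ⟨b * a⁻¹, by rw [FixBN.OfBN.smul_mk, inv_mul_cancel_right]⟩
    · intro x hx u hu
      rw [ht]
      refine Cop.fix_pgroup hα hcop hτ hc (S.isP x) (Cop.smul_of_mem fun v hv => ?_) u hu
      have h1 := t.τ_mem_U S hv
      rw [hx, ht] at h1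
      exact h1
  ext g
  have h1 : g⁻¹ * α g ∈ P.B.normalCore := by
    intro b
    have h2 : (t.τ g) • (QuotientGroup.mk b⁻¹ : K ⧸ P.B) = g • (QuotientGroup.mk b⁻¹ : K ⧸ P.B) := by
      have h3 := t.θ_smul g (QuotientGroup.mk b⁻¹ : K ⧸ P.B)
      rw [hfix, hfix] at h3
      exact h3.symm
    rw [ht, FixBN.OfBN.smul_mk, FixBN.OfBN.smul_mk, eq_comm, FixBN.OfBN.mk_eq] at h2
    have e : (g * b⁻¹)⁻¹ * (α g * b⁻¹) = b * (g⁻¹ * α g) * b⁻¹ := by group
    rwa [e] at h2
  rw [Cfsg.Agent.Tits.OfBN.normalCore_eq_bot P hne, Subgroup.mem_bot] at h1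
  exact (inv_mul_eq_one.1 h1).symm

end Cfsg.Agent.H277.Two
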