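import Mathlib
import Cfsg.Agent.H277.MovesLie
import Cfsg.Agent.H277.Two
import Cfsg.Agent.H388.EvenFixAll
import Cfsg.Agent.ThreePrime.Main

/-!
# Coprime automorphisms move elements of involution centralisers

* `main` : `G` finite simple, known, not abelian, `τ` an involution of `G`, `α ≠ 1` an automorphism of order prime to
  `|G|`: `α` moves an element of `C_G(τ)`.
-/

set_option autoImplicit false

namespace Cfsg.Agent.H277.Main

open Cfsg Cfsg.Agent.H277.ExcChev Cfsg.Agent.BpSpor.Inn Cfsg.Agent.CpAut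

/-- The case of an automorphism of prime order. -/
theorem eq_one {G : Type*} [Group G] [Finite G] [IsSimpleGroup G] (hK : IsKnownSimple' G)
    (hna : ¬ IsMulCommutative G) {τ : G}
    (hτ : orderOf τ = 2) {r : ℕ} (hr : r.Prime) {x : MulAut G} (hx : orderOf x = r) (hcop : ¬ r ∣ Nat.card G)
    (hfix : ∀ c ∈ Subgroup.centralizer ({τ} : Set G), x c = c) : x = 1 := by
  have hFr : Fact r.Prime := ⟨hr⟩
  have h2 : 2 ∣ Nat.card G := (H388.EvenFixAll.even_card hna).two_dvd
  have hxr : x ^ r = 1 := by rw [← hx]; exact pow_orderOf_eq_one x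
  have hr2 : r ≠ 2 := fun h => hcop (by rw [h]; exact h2)
  have hττ : τ * τ = 1 := by rw [← pow_two, ← hτ]; exact pow_orderOf_eq_one τ
  have hc : ∃ a b : G, a * b ≠ b * a := by
    by_contra hcon
    push Not at hcon
    exact hna ⟨⟨hcon⟩⟩
  -- the characteristic 2 case
  have lie2 : IsLieTypeChar 2 G → x = 1 := by
    intro h
    have : Fact (Nat.Prime 2) := ⟨Nat.prime_two⟩
    exact Two.eq_one_of_hasSplit (H388.EvenFixAll.hasSplit_of_lie Nat.prime_two h) hcop hxr
      ⟨1, by rw [pow_one, pow_two]; exact hττ⟩ hfix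
  -- inner automorphisms
  have key : AutInner r G → x = 1 := fun hi => H388.EvenFixAll.eq_one_of_inner hna hr hcop hi hxr
  -- odd characteristic
  have lie : ∀ p : ℕ, p.Prime → p ≠ 2 → IsLieTypeChar p G → x = 1 := by
    intro p hp hp2 h
    by_cases h3 : 3 ∣ Nat.card G
    · have hr3 : r ≠ 3 := fun h => hcop (by rw [h]; exact h3)
      have h5 : 5 ≤ r := by
        have h1 := hr.two_le
        have h4 : r ≠ 4 := by rintro rfl; exact absurd hr (by norm_num)
        omega
      by_contra hx1
      obtain ⟨c, hcm, hne⟩ := MovesLie.moves_lie hp2 hc h2 h3 h x (by rw [hx]; exact hr)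
        (by rw [hx]; exact (hr.coprime_iff_not_dvd).2 hcop) (by rw [hx]; exact h5)
        (by rw [hx]; exact fun h => hr2 ((Nat.prime_dvd_prime_iff_eq Nat.prime_two hr).1 h).symm)
        (by rw [hx]; exact fun h => hr3 ((Nat.prime_dvd_prime_iff_eq Nat.prime_three hr).1 h).symm) τ hττ
      exact hne (hfix c hcm)
    · exact lie2 (Or.inr (Or.inr (Or.inr (Or.inr (Or.inr (Or.inr (Or.inr (Or.inr (Or.inl
        ⟨rfl, ThreePrime.Main.isoSuzuki' hna h3⟩)))))))))
  rcases OddHalf.Known.classify hna hK with h | ⟨p, hp, hp2, h⟩ | (h | h) | h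
  · obtain ⟨n, hn, ⟨e⟩⟩ := h
    rcases (show n = 5 ∨ n = 6 ∨ 7 ≤ n by omega) with rfl | rfl | h7
    · let _ : Fintype (GaloisField 2 2) := Fintype.ofFinite _
      have hF : Fintype.card (GaloisField 2 2) = 4 := by
        rw [Fintype.card_eq_nat_card, GaloisField.card 2 2 (by norm_num)]; norm_num
      obtain ⟨f⟩ := S0252.result hF
      exact lie2 (Or.inl ⟨GaloisField 2 2, inferInstance, inferInstance, inferInstance, 2, le_rfl,
        fun _ => hF.ge, ⟨e.trans f.symm⟩⟩)
    · let _ : Fintype (GaloisField 3 2) := Fintype.ofFinite _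
      have hF : Fintype.card (GaloisField 3 2) = 9 := by
        rw [Fintype.card_eq_nat_card, GaloisField.card 3 2 (by norm_num)]; norm_num
      obtain ⟨f⟩ := S0254.result hF
      exact lie 3 Nat.prime_three (by norm_num) (Or.inl ⟨GaloisField 3 2, inferInstance, inferInstance,
        inferInstance, 2, le_rfl, fun _ => by rw [hF]; norm_num, ⟨e.trans f.symm⟩⟩)
    · exact key ((autInner_alt h7 hr hr2).congr e.symm)
  · exact lie p hp hp2 h
  · exact lie2 h
  · exact key (tits h r hr hr2)
  · exact key (H388.EvenFixAll.oddInn_sporadic h r hr hr2)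

/-- **Coprime automorphisms of finite simple groups move elements of involution centralisers.** -/
theorem main {G : Type*} [Group G] [Finite G] [IsSimpleGroup G] (hK : IsKnownSimple' G)
    (hG : ¬ IsMulCommutative G) (τ : G) (hτ : orderOf τ = 2) (α : MulAut G) (hα : α ≠ 1)
    (hcop : (orderOf α).Coprime (Nat.card G)) :
    ∃ c ∈ Subgroup.centralizer ({τ} : Set G), α c ≠ c := by
  by_contra hcon
  push Not at hcon
  have hfin : Finite (MulAut G) := Finite.of_injective (fun f : MulAut G => (f : G → G)) DFunLike.coe_injective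
  obtain ⟨r, hr, hrd⟩ : ∃ r, r.Prime ∧ r ∣ orderOf α :=
    Nat.exists_prime_and_dvd (by rw [Ne, orderOf_eq_one_iff]; exact hα)
  have hβ : orderOf (α ^ (orderOf α / r)) = r := orderOf_pow_orderOf_div (orderOf_pos α).ne' hrd
  have hfix : ∀ k : ℕ, ∀ c ∈ Subgroup.centralizer ({τ} : Set G), (α ^ k) c = c := by
    intro k
    induction k with
    | zero => intro c _; rfl
    | succ k ih =>
      intro c hc
      rw [pow_succ, MulAut.mul_apply, hcon c hc]
      exact ih c hc
  have hc2 : ¬ r ∣ Nat.card G := by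
    intro h
    have h1 : r ∣ 1 := by
      rw [← Nat.Coprime.gcd_eq_one hcop]
      exact Nat.dvd_gcd hrd h
    exact hr.one_lt.ne' (Nat.dvd_one.1 h1)
  have h1 := eq_one hK hG hτ hr hβ hc2 (hfix _)
  rw [h1, orderOf_one] at hβ
  exact hr.one_lt.ne hβ

end Cfsg.Agent.H277.Main
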